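import Groth.Agent.H7Flat.CohDim.Top
import Groth.Agent.H7Flat.Stratification
import Groth.Agent.H7Lim.Thickening
import Groth.Agent.H17.AnnSheaf
import Groth.Agent.LeadDev.Basic
import Groth.Agent.H16Derived.KFlat.PerfCoh

/-!
# Cohomology and affine stratifications

Cohomology of quasi-coherent modules vanishes above the affine stratification number.
-/

set_option autoImplicit false
set_option linter.style.haveILetI false
set_option backward.isDefEq.respectTransparency false

noncomputable section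

universe u

open CategoryTheory CategoryTheory.Limits AlgebraicGeometry Opposite TopologicalSpace

namespace Groth.Agent.H7Flat.CohDim

open Groth.Agent.H10Coh Abelian

attribute [local instance 10000] hasSheafifyAb hasWeakSheafifyAb hasExtAb enoughInjAb
attribute [local instance] enoughInjMod

variable {X : Scheme.{u}}

theorem subsingleton_HH_of_isZero {M : X.Modules} (h : IsZero M) (n : ℕ) : Subsingleton (Coh.HH X M n) := by
  refine subsingleton_of_forall_eq 0 fun x => ?_
  rw [← LeadFF.Hm_id M n x, show 𝟙 M = 0 from h.eq_of_src _ _]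
  exact LeadFF.Hm_zero n x

theorem subsingleton_HH_push_closed {W : Scheme.{u}} (i : W ⟶ X) [IsAffineHom i] (N : W.Modules)
    [N.IsQuasicoherent] (n : ℕ) (h : Subsingleton (Coh.HH W N n)) :
    Subsingleton (Coh.HH X ((Coh.push i).obj N) n) :=
  (lerayHH i N n).toEquiv.subsingleton

/-- Cohomology of modules vanishing on the open `V` is controlled by the closed subschemes missing `V`. -/
theorem subsingleton_HH_of_supported [CompactSpace X] [QuasiSeparatedSpace X] (V : X.Opens) (d : ℕ)
    (h : ∀ (I : X.IdealSheafData), Disjoint (I.support : Set X) (V : Set X) → ∀ (N : I.subscheme.Modules),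
      Coh.IsQCoh N → ∀ p, d ≤ p → Subsingleton (Coh.HH I.subscheme N p))
    (G : X.Modules) (hG : Coh.IsQCoh G) (hGV : IsZero (G.restrict V.ι)) (p : ℕ) (hp : d ≤ p) :
    Subsingleton (Coh.HH X G p) := by
  classical
  obtain ⟨e, he⟩ := exists_bound (X := X)
  obtain ⟨m, hm⟩ : ∃ m, e ≤ p + m := ⟨e, Nat.le_add_left _ _⟩
  induction m generalizing p G with
  | zero => exact he G hG p hm
  | succ m ih =>
    haveI : G.IsQuasicoherent := hG
    let J : Type u := Σ U : X.affineOpens, Γ(G, U.1)
    have hP : ∀ σ : J, ∃ (P : X.Modules) (φ : P ⟶ G), CohB1.IsFP P ∧ σ.2 ∈ Set.range (φ.app σ.1.1) :=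
      fun σ => Groth.Agent.H17.FPExt.exists_fp_through G hG σ.1 σ.2
    choose P φ hPfp hφ using hP
    -- the images of finite type
    let Q : J → X.Modules := fun σ => Limits.image (φ σ)
    have hPq : ∀ σ, (P σ).IsQuasicoherent := fun σ => H29Fitt.isQCoh_of_isFP _ (hPfp σ)
    haveI hQq : ∀ σ, (Q σ).IsQuasicoherent := fun σ => by
      haveI := hPq σ
      haveI := isQuasicoherent_coimage (φ σ) (𝟙 G)
      exact isQuasicoherent_of_iso (Abelian.coimageIsoImage' (φ σ))
    have hQft : ∀ σ, CohB1.IsFT (Q σ) := fun σ =>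
      H16Derived.KFlat.Stalk.isFT_of_epi (factorThruImage (φ σ)) (H29Fitt.isFT_of_isFP _ (hPfp σ))
    let R := Scheme.Modules.restrictFunctor V.ι
    have hQV : ∀ σ, IsZero (R.obj (Q σ)) := fun σ => IsZero.of_mono (R.map (Limits.image.ι (φ σ))) hGV
    have hQ : ∀ σ, Subsingleton (Coh.HH X (Q σ) p) := fun σ => by
      let I := H17.AnnSheaf.annData (Q σ) (hQq σ) (hQft σ)
      have hI : Disjoint (I.support : Set X) (V : Set X) := by
        rw [H17.AnnSheaf.support_annData]
        exact Set.disjoint_left.2 fun x hx hxV =>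
          LeadDev.notMem_support_of_isZero_restrict V.ι (hQV σ) (by simpa using hxV) hx
      haveI := H17.AnnSheaf.isIso_unit_annData (Q σ) (hQq σ) (hQft σ)
      haveI hN : ((Scheme.Modules.pullback I.subschemeι).obj (Q σ)).IsQuasicoherent :=
        H29Fitt.isQCoh_pullback _ _ (hQq σ)
      exact subsingleton_HH_of_iso
        (asIso ((Scheme.Modules.pullbackPushforwardAdjunction I.subschemeι).unit.app (Q σ))).symm p
        (subsingleton_HH_push_closed I.subschemeι _ p (h I hI _ hN p hp))
    haveI hcq : (∐ Q).IsQuasicoherent := isQuasicoherent_coproduct Q hQq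
    let Φ : (∐ Q) ⟶ G := Sigma.desc fun σ => Limits.image.ι (φ σ)
    haveI : Epi Φ := by
      refine Abelian.epi_of_cokernel_π_eq_zero _ (IsZero.eq_of_tgt (isZero_of_cover (isQuasicoherent_cokernel Φ)
        (fun U : X.affineOpens => U.1) (fun U => U.2) (iSup_affineOpens_eq_top X).ge fun U => ?_) _ _)
      refine subsingleton_of_forall_eq 0 fun z => ?_
      haveI := isQuasicoherent_cokernel Φ
      obtain ⟨t, rfl⟩ := surjective_app_of_epi (cokernel.π Φ) U.2 z
      obtain ⟨v, hv⟩ := hφ ⟨U, t⟩
      have hv' : (φ ⟨U, t⟩).app U.1 v = t := hv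
      have hfac : factorThruImage (φ ⟨U, t⟩) ≫ Sigma.ι Q ⟨U, t⟩ ≫ Φ = φ ⟨U, t⟩ := by
        simp [Φ, Limits.image.fac]
      rw [← hv']
      show (φ ⟨U, t⟩ ≫ cokernel.π Φ).app U.1 v = 0
      rw [← hfac, Category.assoc, Category.assoc, cokernel.condition, comp_zero, comp_zero]
      rfl
    haveI hker : (kernel Φ).IsQuasicoherent := isQuasicoherent_kernel Φ
    have hsupp : IsZero ((kernel Φ).restrict V.ι) := by
      have h0 : IsZero (R.obj (∐ Q)) := by
        refine IsZero.of_iso ?_ (PreservesCoproduct.iso R Q)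
        exact (IsZero.iff_id_eq_zero _).2 (Sigma.hom_ext _ _ fun σ => (hQV σ).eq_of_src _ _)
      exact IsZero.of_mono (R.map (kernel.ι Φ)) h0
    refine subsingleton_of_forall_eq 0 fun x => ?_
    obtain ⟨s, y, rfl⟩ := exists_sum_of_epi Φ p
      (ih (kernel Φ) hker hsupp (p + 1) (by omega) (by omega)) x
    exact Finset.sum_eq_zero fun σ _ => by rw [(hQ σ).elim (y σ) 0, map_zero]

/-- Pulling back an affine stratification of length `n + 1` to a closed subscheme missing the top stratum. -/
theorem hasAffineStratification_closed {n : ℕ} (s : X → Fin (n + 2))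
    (hcl : ∀ i : Fin (n + 2), IsClosed {x : X | s x ≤ i})
    (hstr : ∀ i : Fin (n + 2), ∃ (Z : Scheme.{u}) (ι : Z ⟶ X),
      IsImmersion ι ∧ IsAffine Z ∧ IsAffineHom ι ∧ Set.range ι = {x : X | s x = i})
    {W : Scheme.{u}} (i : W ⟶ X) [IsClosedImmersion i] (hW : ∀ w, s (i w) ≠ Fin.last (n + 1)) :
    MoreMor.HasAffineStratification W n := by
  let s' : W → Fin (n + 1) := fun w => (s (i w)).castPred (hW w)
  have hs : ∀ w, (s' w).castSucc = s (i w) := fun w => Fin.castSucc_castPred _ _
  refine ⟨s', fun a => ?_, fun a => ?_⟩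
  · have : {w : W | s' w ≤ a} = i ⁻¹' {x : X | s x ≤ a.castSucc} := by
      ext w
      simp [← hs]
    rw [this]
    exact (hcl _).preimage i.continuous
  · obtain ⟨Z, ι, hι, hZ, hιa, hr⟩ := hstr a.castSucc
    refine ⟨pullback ι i, pullback.snd ι i, MorphismProperty.pullback_snd _ _ hι,
      isAffine_of_isAffineHom (pullback.fst ι i), MorphismProperty.pullback_snd _ _ hιa, ?_⟩
    rw [Scheme.Pullback.range_snd, hr]
    ext w
    simp [← hs]

theorem isIso_restrict_unit (V : X.Opens) (M : X.Modules) :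
    IsIso ((Scheme.Modules.restrictFunctor V.ι).map ((Scheme.Modules.restrictAdjunction V.ι).unit.app M)) := by
  let adj := Scheme.Modules.restrictAdjunction V.ι
  let R := Scheme.Modules.restrictFunctor V.ι
  haveI : IsIso (adj.counit.app (R.obj M)) := inferInstance
  have h := adj.left_triangle_components M
  exact (IsIso.eq_inv_of_inv_hom_id h : R.map (adj.unit.app M) = inv (adj.counit.app (R.obj M))) ▸ inferInstance

theorem subsingleton_HH_mid {S : ShortComplex X.Modules} (hS : S.ShortExact) (n : ℕ)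
    (h1 : Subsingleton (Coh.HH X S.X₁ n)) (h3 : Subsingleton (Coh.HH X S.X₃ n)) :
    Subsingleton (Coh.HH X S.X₂ n) := by
  haveI : Subsingleton (HnM S.X₁ n ⊤) := (topEquiv (sh S.X₁) n).toEquiv.subsingleton_congr.1 ‹Subsingleton (Coh.HH X S.X₁ n)›
  haveI : Subsingleton (HnM S.X₃ n ⊤) := (topEquiv (sh S.X₃) n).toEquiv.subsingleton_congr.1 ‹Subsingleton (Coh.HH X S.X₃ n)›
  refine ((topEquiv (sh S.X₂) n).toEquiv.subsingleton_congr).2 (subsingleton_of_forall_eq 0 fun x => ?_)
  obtain ⟨y, hy⟩ := CategoryTheory.Abelian.Ext.covariant_sequence_exact₂ _ (shortExact_sh hS) x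
    (Subsingleton.elim (α := HnM S.X₃ n ⊤) _ _)
  rw [← hy, Subsingleton.elim (α := HnM S.X₁ n ⊤) y 0]
  simp

theorem subsingleton_HH_left {S : ShortComplex X.Modules} (hS : S.ShortExact) (n : ℕ)
    (h2 : Subsingleton (Coh.HH X S.X₂ (n + 1))) (h3 : Subsingleton (Coh.HH X S.X₃ n)) :
    Subsingleton (Coh.HH X S.X₁ (n + 1)) := by
  haveI : Subsingleton (HnM S.X₂ (n + 1) ⊤) := (topEquiv (sh S.X₂) (n + 1)).toEquiv.subsingleton_congr.1 ‹Subsingleton (Coh.HH X S.X₂ (n + 1))›
  haveI : Subsingleton (HnM S.X₃ n ⊤) := (topEquiv (sh S.X₃) n).toEquiv.subsingleton_congr.1 ‹Subsingleton (Coh.HH X S.X₃ n)›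
  refine ((topEquiv (sh S.X₁) (n + 1)).toEquiv.subsingleton_congr).2 (subsingleton_of_forall_eq 0 fun x => ?_)
  obtain ⟨y, hy⟩ := CategoryTheory.Abelian.Ext.covariant_sequence_exact₁ _ (shortExact_sh hS) x
    (Subsingleton.elim (α := HnM S.X₂ (n + 1) ⊤) _ _) rfl
  rw [← hy, Subsingleton.elim (α := HnM S.X₃ n ⊤) y 0]
  simp

/-- A map whose kernel and cokernel have no cohomology in degrees `q + 1` and `q`. -/
theorem subsingleton_HH_of_map {M N : X.Modules} (φ : M ⟶ N) (q : ℕ)
    (hK : Subsingleton (Coh.HH X (kernel φ) (q + 1))) (hC : Subsingleton (Coh.HH X (cokernel φ) q))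
    (hN : Subsingleton (Coh.HH X N (q + 1))) : Subsingleton (Coh.HH X M (q + 1)) := by
  have hS1 : (ShortComplex.mk (kernel.ι φ) (cokernel.π (kernel.ι φ)) (cokernel.condition _)).ShortExact :=
    { exact := ShortComplex.exact_of_g_is_cokernel _ (cokernelIsCokernel _) }
  have hS2 : (ShortComplex.mk (kernel.ι (cokernel.π φ)) (cokernel.π φ) (kernel.condition _)).ShortExact :=
    { exact := ShortComplex.exact_of_f_is_kernel _ (kernelIsKernel _) }
  exact subsingleton_HH_mid hS1 (q + 1) hK
    (subsingleton_HH_of_iso (Abelian.coimageIsoImage φ).symm (q + 1) (subsingleton_HH_left hS2 q hN hC))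

/-- Vanishing above the affine stratification number. -/
theorem subsingleton_HH_above : ∀ (n : ℕ) (X : Scheme.{u}), MoreMor.HasAffineStratification X n →
    ∀ (F : X.Modules), Coh.IsQCoh F → ∀ p, n < p → Subsingleton (Coh.HH X F p) := by
  intro n
  induction n with
  | zero =>
    intro X hX F hF p hp
    obtain ⟨s, -, hstr⟩ := hX
    obtain ⟨Z, ι, hι, hZ, -, hr⟩ := hstr 0
    haveI := hι
    have hsurj : Function.Surjective ι := fun x => hr.ge (Subsingleton.elim (α := Fin 1) (s x) 0)
    haveI : IsClosedImmersion ι := .of_isPreimmersion _ (by rw [hsurj.range_eq]; exact isClosed_univ)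
    haveI := H7Lim.isAffine_of_surjective_closedImmersion ι hsurj
    haveI : F.IsQuasicoherent := hF
    exact subsingleton_HH_of_isAffine F hp
  | succ n ih =>
    intro X hX F hF p hp
    obtain ⟨hc, hq⟩ := compactSpace_of_hasAffineStratification hX
    obtain ⟨s, hcl, hstr⟩ := hX
    let L := Fin.last (n + 1)
    have hopen : IsOpen {x : X | s x = L} := by
      have : {x : X | s x = L} = {x : X | s x ≤ (Fin.last n).castSucc}ᶜ := by
        ext x
        simp only [L, Set.mem_ofPred_eq, Set.mem_compl_iff, not_le, Fin.castSucc_lt_iff_succ_le, Fin.succ_last,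
          Fin.last_le_iff]
      rw [this]
      exact (hcl _).isOpen_compl
    let V : X.Opens := ⟨_, hopen⟩
    obtain ⟨Z, ι, hι, hZ, hιa, hr⟩ := hstr L
    haveI := hι
    haveI := hZ
    haveI := hιa
    -- the top stratum is an affine open with affine inclusion
    let ι' : Z ⟶ V.toScheme := IsOpenImmersion.lift V.ι ι (by rw [Scheme.Opens.range_ι]; exact hr.le)
    have hfac : ι' ≫ V.ι = ι := IsOpenImmersion.lift_fac _ _ _
    have hsurj : Function.Surjective ι' := fun v => by
      obtain ⟨z, hz⟩ := hr.ge v.2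
      refine ⟨z, V.ι.isEmbedding.injective ?_⟩
      rw [← Scheme.Hom.comp_apply, hfac]
      exact hz
    haveI : IsImmersion ι' := by
      haveI : IsImmersion (ι' ≫ V.ι) := by rw [hfac]; infer_instance
      exact IsImmersion.of_comp ι' V.ι
    haveI : IsClosedImmersion ι' := .of_isPreimmersion _ (by rw [hsurj.range_eq]; exact isClosed_univ)
    haveI hVaff : IsAffine V.toScheme := H7Lim.isAffine_of_surjective_closedImmersion ι' hsurj
    haveI : IsAffineHom V.ι := by
      refine ⟨fun A hA => ?_⟩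
      haveI : IsAffine (ι ⁻¹ᵁ A).toScheme := hA.preimage ι
      haveI : IsAffine (ι' ⁻¹ᵁ (V.ι ⁻¹ᵁ A)).toScheme := by
        rw [← Scheme.Hom.comp_preimage, hfac]; assumption
      refine H7Lim.isAffine_of_surjective_closedImmersion (ι' ∣_ (V.ι ⁻¹ᵁ A)) ?_
      intro v
      obtain ⟨z, hz⟩ := hsurj v.1
      exact ⟨⟨z, show ι' z ∈ V.ι ⁻¹ᵁ A by rw [hz]; exact v.2⟩, Subtype.ext ((morphismRestrict_base_coe ι' (V.ι ⁻¹ᵁ A) _).trans hz)⟩
    -- modules vanishing on the top stratum
    have hsupp : ∀ (G : X.Modules), Coh.IsQCoh G → IsZero (G.restrict V.ι) → ∀ q, n + 1 ≤ q →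
        Subsingleton (Coh.HH X G q) := fun G hG hG0 q hq =>
      subsingleton_HH_of_supported V (n + 1) (fun I hI N hN q hq =>
        ih I.subscheme (hasAffineStratification_closed s hcl hstr I.subschemeι fun w hw => by
          refine Set.disjoint_left.1 hI ?_ (show I.subschemeι w ∈ V from hw)
          rw [← I.range_subschemeι]
          exact ⟨w, rfl⟩) N hN q (by omega)) G hG hG0 q hq
    haveI : F.IsQuasicoherent := hF
    let R := Scheme.Modules.restrictFunctor V.ι
    let η := (Scheme.Modules.restrictAdjunction V.ι).unit.app F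
    haveI hRF : (F.restrict V.ι).IsQuasicoherent := Scheme.Modules.isQuasicoherent_restrictFunctor V.ι F
    haveI hPF : ((R ⋙ Scheme.Modules.pushforward V.ι).obj F).IsQuasicoherent :=
      isQuasicoherent_pushforward_of_isAffineHom V.ι _
    have hpush : Subsingleton (Coh.HH X ((R ⋙ Scheme.Modules.pushforward V.ι).obj F) p) :=
      subsingleton_HH_push_closed V.ι _ p (subsingleton_HH_of_isAffine _ (by omega))
    haveI : IsIso (R.map η) := isIso_restrict_unit V F
    haveI : ((𝟭 X.Modules).obj F).IsQuasicoherent := hF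
    haveI hKq : (kernel η).IsQuasicoherent := isQuasicoherent_kernel η
    haveI hCq : (cokernel η).IsQuasicoherent := isQuasicoherent_cokernel η
    have hK : Subsingleton (Coh.HH X (kernel η) p) := hsupp _ hKq
      ((isZero_kernel_of_mono (R.map η)).of_iso (PreservesKernel.iso R η)) p (by omega)
    obtain ⟨q, rfl⟩ : ∃ q, p = q + 1 := ⟨p - 1, by omega⟩
    have hC : Subsingleton (Coh.HH X (cokernel η) q) := hsupp _ hCq
      ((isZero_cokernel_of_epi (R.map η)).of_iso (PreservesCokernel.iso R η)) q (by omega)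
    exact subsingleton_HH_of_map η q hK hC hpush

end Groth.Agent.H7Flat.CohDim
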