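import Groth.Agent.S0403
import Groth.Agent.S2079
import Groth.Agent.S9216
import Groth.Agent.H12Pic.PicCurve.VanishLocal
import Groth.Agent.LeadBC.StalkRpush
import Groth.Agent.H17.FPExt.Colimit

/-!
# Cohomology of quasi-coherent modules vanishes above the dimension of the fibre

For an arbitrary proper morphism (no Noetherian or finite presentation hypotheses).
-/

set_option autoImplicit false
set_option linter.style.haveILetI false
set_option backward.isDefEq.respectTransparency.types false

noncomputable section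

universe u

open CategoryTheory CategoryTheory.Limits AlgebraicGeometry Opposite TopologicalSpace

namespace Groth.Agent.H7Flat.CohDim

open Groth.Agent.H10Coh Groth.Agent.H12Pic.PicCurve

attribute [local instance 10000] hasSheafifyAb hasWeakSheafifyAb hasExtAb enoughInjAb
attribute [local instance] enoughInjMod
attribute [local instance] CategoryTheory.isConnected_of_hasTerminal

/-- Base change along a preimmersion does not change the dimensions of fibres. -/
theorem dim_fiber_eq {X Y X' Y' : Scheme.{u}} {g : X' ⟶ X} {f' : X' ⟶ Y'} {f : X ⟶ Y} {j : Y' ⟶ Y}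
    [IsPreimmersion j] (h : IsPullback g f' f j) (s : Y') :
    topologicalKrullDim ↥(f'.fiber s) = topologicalKrullDim ↥(f.fiber (j s)) := by
  haveI : IsIso (j.residueFieldMap s) := by
    refine (ConcreteCategory.isIso_iff_bijective (j.residueFieldMap s)).mpr
      ⟨(j.residueFieldMap s).hom.injective, ?_⟩
    intro a
    obtain ⟨a, rfl⟩ := IsLocalRing.residue_surjective a
    obtain ⟨b, rfl⟩ := j.stalkMap_surjective s a
    exact ⟨IsLocalRing.residue _ b, rfl⟩
  have hc := isPullback_fiberToSpecResidueField_of_isPullback h s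
  haveI : IsIso (Spec.map (j.residueFieldMap s)) := inferInstance
  haveI := hc.isIso_fst_of_isIso
  exact IsHomeomorph.topologicalKrullDim_eq _
    (pullback.map f' (Y'.fromSpecResidueField s) f (Y.fromSpecResidueField (j s)) g
      (Spec.map (j.residueFieldMap s)) j h.w.symm _).homeomorph.isHomeomorph

/-- Over a local ring, a proper morphism whose closed fibre has dimension `≤ d` has all fibres of dimension `≤ d`. -/
theorem dim_fiber_le_of_local {R : CommRingCat.{u}} [IsLocalRing R] {X : Scheme.{u}} (f : X ⟶ Spec R)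
    [IsProper f] (d : ℕ) (hd : topologicalKrullDim ↥(f.fiber (IsLocalRing.closedPoint R : Spec R)) ≤ d)
    (s : Spec R) : topologicalKrullDim ↥(f.fiber s) ≤ d :=
  (IsLocalRing.specializes_closedPoint s).mem_open (Groth.Agent.S0403.result f d) hd

/-- Cohomology of a quasi-coherent module on a proper scheme over a local ring vanishes above the dimension
of the closed fibre. -/
theorem subsingleton_HH_local {R : CommRingCat.{u}} [IsLocalRing R] {X : Scheme.{u}} (f : X ⟶ Spec R)
    [IsProper f] (d : ℕ)
    (hd : topologicalKrullDim ↥(f.fiber (IsLocalRing.closedPoint R : Spec R)) ≤ d)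
    (M : X.Modules) (hM : Coh.IsQCoh M) (p : ℕ) (hp : d < p) : Subsingleton (Coh.HH X M p) := by
  obtain ⟨I, _, _, D, c, hc, e, hD, hc'⟩ := Groth.Agent.S2079.result f
  haveI : Nonempty I := IsCofiltered.nonempty
  let i : I := Classical.arbitrary I
  obtain ⟨h1, h2, h3⟩ := hc' i
  haveI := h1
  haveI := h2
  haveI := h3
  let ι : X ⟶ (D.obj i).left := e.inv.left ≫ (c.π.app i).left
  haveI : IsIso e.inv.left := inferInstance
  haveI : IsClosedImmersion ι := inferInstanceAs (IsClosedImmersion (_ ≫ _))
  have hι : ι ≫ (D.obj i).hom = f := by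
    show (e.inv.left ≫ (c.π.app i).left) ≫ (D.obj i).hom = f
    rw [Category.assoc, Over.w]
    exact Over.w e.inv
  obtain ⟨Z', ι', k, hι', hι'', hk, hdim⟩ := Groth.Agent.S9216.result (D.obj i).hom d ι
    (fun s => by rw [hι]; exact dim_fiber_le_of_local f d hd s)
  haveI := hι'
  haveI := hι''
  haveI : IsClosedImmersion (k ≫ ι') := by rw [hk]; infer_instance
  haveI : IsClosedImmersion k := .of_comp k ι'
  haveI : IsProper (ι' ≫ (D.obj i).hom) := inferInstance
  haveI : M.IsQuasicoherent := hM
  haveI : Subsingleton (Coh.HH Z' ((Coh.push k).obj M) p) :=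
    VanishLocal.subsingleton_HH (ι' ≫ (D.obj i).hom) d (hdim _) _
      (isQuasicoherent_pushforward_of_isAffineHom k M) p hp
  have h4 : Subsingleton (HnM ((Coh.push k).obj M) p ⊤) :=
    @Equiv.subsingleton _ _ (topEquiv (Coh.toAb ((Coh.push k).obj M)) p).symm.toEquiv inferInstance
  have h5 : Subsingleton (HnM M p (k ⁻¹ᵁ ⊤)) :=
    @Equiv.subsingleton _ _ (affineLerayEquiv k M p ⊤).symm.toEquiv h4
  exact @Equiv.subsingleton _ _ (topEquiv (Coh.toAb M) p).toEquiv h5

/-- The stalks of higher direct images vanish above the dimension of the fibre. -/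
theorem subsingleton_stalk {X Y : Scheme.{u}} (f : X ⟶ Y) [IsProper f]
    [HasInjectiveResolutions X.Modules] (y : Y) (d : ℕ)
    (hd : topologicalKrullDim ↥(f.fiber y) ≤ d) (M : X.Modules) [Coh.IsQCoh M] (p : ℕ) (hp : d < p) :
    Subsingleton (((Coh.Rpush f p).obj M).presheaf.stalk y) := by
  letI : (pullback f (Y.fromSpecStalk y)).Over (Spec (CommRingCat.of (Y.presheaf.stalk y))) :=
    ⟨pullback.snd f (Y.fromSpecStalk y)⟩
  have hsq : IsPullback (pullback.fst f (Y.fromSpecStalk y))
      (pullback f (Y.fromSpecStalk y) ↘ Spec (CommRingCat.of (Y.presheaf.stalk y))) f (Y.fromSpecStalk y) :=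
    IsPullback.of_hasPullback _ _
  obtain ⟨e⟩ := Groth.Agent.LeadBC.exists_stalkEquiv f M y p _ _ hsq
  haveI : IsProper (pullback.snd f (Y.fromSpecStalk y)) := MorphismProperty.pullback_snd _ _ inferInstance
  have hd' : topologicalKrullDim ↥((pullback.snd f (Y.fromSpecStalk y)).fiber
      (IsLocalRing.closedPoint (Y.presheaf.stalk y) : Spec (Y.presheaf.stalk y))) ≤ d := by
    rw [dim_fiber_eq (IsPullback.of_hasPullback f (Y.fromSpecStalk y)), Scheme.fromSpecStalk_closedPoint]
    exact hd
  haveI := subsingleton_HH_local (pullback.snd f (Y.fromSpecStalk y)) d hd'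
    ((Scheme.Modules.pullback (pullback.fst f (Y.fromSpecStalk y))).obj M) inferInstance p hp
  exact e.toEquiv.symm.subsingleton

/-- The higher direct images vanish above a bound for the dimensions of all fibres. -/
theorem isZero_rpushAb {X Y : Scheme.{u}} (f : X ⟶ Y) [IsProper f] (d : ℕ)
    (hd : ∀ y : Y, topologicalKrullDim ↥(f.fiber y) ≤ d) (M : X.Modules) [Coh.IsQCoh M] (p : ℕ) (hp : d < p) :
    IsZero ((Coh.RpushAb f p).obj (Coh.toAb M)) :=
  ((shF Y).map_isZero (Groth.Agent.H17.FPExt.isZero_of_stalk _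
    (fun y => subsingleton_stalk f y d (hd y) M p hp))).of_iso (nonempty_toAb_rpush f M p).some.symm

/-- Over an affine base, cohomology vanishes above a bound for the dimensions of all fibres. -/
theorem subsingleton_HH {X Y : Scheme.{u}} (f : X ⟶ Y) [IsProper f] [IsAffine Y] (d : ℕ)
    (hd : ∀ y : Y, topologicalKrullDim ↥(f.fiber y) ≤ d) (M : X.Modules) [Coh.IsQCoh M] (p : ℕ) (hp : d < p) :
    Subsingleton (Coh.HH X M p) := by
  obtain ⟨e⟩ := nonempty_sections_rpushAb f M (W := (⊤ : Y.Opens)) (isAffineOpen_top _) p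
  haveI : Subsingleton (((Coh.RpushAb f p).obj (Coh.toAb M)).obj.obj (op (⊤ : Y.Opens))) :=
    AddCommGrpCat.subsingleton_of_isZero
      (((sheafToPresheaf _ _).map_isZero (isZero_rpushAb f d hd M p hp)).obj _)
  have h1 : Subsingleton (HnM M p (f ⁻¹ᵁ ⊤)) := e.toEquiv.subsingleton
  exact @Equiv.subsingleton _ _ (topEquiv (Coh.toAb M) p).toEquiv h1

end Groth.Agent.H7Flat.CohDim
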