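import Groth.Agent.H7Flat.CohDim.RightExact
import Groth.Prelude.Def_Formal
import Groth.Prelude.Def_ClSub2
import Mathlib.AlgebraicGeometry.Morphisms.ClosedImmersion
import Mathlib.Algebra.Category.Ring.Constructions

/-!
# Generating sets of sections of pushforwards from fibre products with affine schemes
-/

set_option autoImplicit false
set_option linter.style.haveILetI false
set_option backward.isDefEq.respectTransparency false

noncomputable section

universe u

open CategoryTheory CategoryTheory.Limits AlgebraicGeometry Opposite TopologicalSpace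
open scoped TensorProduct

namespace Groth.Agent.H7Flat.CohDim

open Groth.Agent.H10Coh

attribute [local instance 10000] hasSheafifyAb hasWeakSheafifyAb hasExtAb enoughInjAb

section Ring

variable {A B C P : CommRingCat.{u}} {f : A ⟶ B} {g : A ⟶ C} {inl : B ⟶ P} {inr : C ⟶ P}

theorem mem_span_of_isPushout (h : IsPushout f g inl inr) (z : P) :
    letI := inl.hom.toAlgebra
    z ∈ Submodule.span B (Set.range inr.hom) := by
  letI := inl.hom.toAlgebra
  letI := f.hom.toAlgebra
  letI := g.hom.toAlgebra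
  let e := (CommRingCat.isPushout_tensorProduct A B C).isoIsPushout _ _ h
  obtain ⟨t, rfl⟩ : ∃ t, e.hom.hom t = z := ⟨e.inv.hom z, congr($(e.inv_hom_id) z)⟩
  induction t using TensorProduct.induction_on with
  | zero => rw [map_zero]; exact zero_mem _
  | add x y hx hy => rw [map_add]; exact add_mem hx hy
  | tmul b c =>
    have h1 : e.hom.hom (b ⊗ₜ (1 : C)) = inl.hom b :=
      ConcreteCategory.congr_hom (IsPushout.inl_isoIsPushout_hom _ _ (CommRingCat.isPushout_tensorProduct A B C) h) b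
    have h2 : e.hom.hom ((1 : B) ⊗ₜ c) = inr.hom c :=
      ConcreteCategory.congr_hom (IsPushout.inr_isoIsPushout_hom _ _ (CommRingCat.isPushout_tensorProduct A B C) h) c
    rw [show (b ⊗ₜ[A] c : B ⊗[A] C) = (b ⊗ₜ 1) * (1 ⊗ₜ c) by simp, map_mul, h1, h2]
    exact Submodule.smul_mem _ b (Submodule.subset_span ⟨c, rfl⟩)

theorem mem_map_ker_of_isPushout (h : IsPushout f g inl inr) (hg : Function.Surjective g.hom) (x : B)
    (hx : inl.hom x = 0) : x ∈ (RingHom.ker g.hom).map f.hom := by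
  let J := (RingHom.ker g.hom).map f.hom
  let π : B →+* (B : Type u) ⧸ J := Ideal.Quotient.mk J
  have hker : RingHom.ker g.hom ≤ RingHom.ker (π.comp f.hom) := fun a ha =>
    (Ideal.Quotient.eq_zero_iff_mem.mpr (Ideal.mem_map_of_mem f.hom ha))
  let k : C →+* (B : Type u) ⧸ J := RingHom.liftOfSurjective g.hom hg ⟨π.comp f.hom, hker⟩
  have w : f ≫ CommRingCat.ofHom π = g ≫ CommRingCat.ofHom k := by
    ext a
    exact (RingHom.liftOfSurjective_comp_apply (C := (B : Type u) ⧸ J) g.hom hg ⟨π.comp f.hom, hker⟩ a).symm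
  have h1 : π x = 0 := by
    have := congr($(h.inl_desc (CommRingCat.ofHom π) (CommRingCat.ofHom k) w).hom x)
    rw [CommRingCat.hom_comp, RingHom.comp_apply, hx, map_zero] at this
    exact this.symm
  exact Ideal.Quotient.eq_zero_iff_mem.mp h1

end Ring

variable {X : Scheme.{u}}

/-- A map from copies of `O_X` whose images of `1` generate the sections over affine opens is an epimorphism. -/
theorem epi_of_span {ι : Type u} {N : X.Modules} (φ : (∐ fun _ : ι => Coh.structureModule X) ⟶ N)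
    (h : ∀ (U : X.Opens), IsAffineOpen U → ∀ z : Γ(N, U), z ∈ Submodule.span Γ(X, U)
      (Set.range fun i : ι => (Sigma.ι (fun _ : ι => Coh.structureModule X) i ≫ φ).app U (1 : Γ(X, U)))) :
    Epi φ := by
  apply (shF X).epi_of_epi_map
  refine epi_of_locally_surjective _ fun U t x hx => ?_
  obtain ⟨V, hV, hxV, hVU⟩ := Opens.isBasis_iff_nbhd.1 X.isBasis_affineOpens hx
  refine ⟨V, hVU, hxV, ?_⟩
  show ∃ s, φ.app V s = rs N hVU t
  refine Submodule.span_induction (fun z hz => ?_) ⟨0, map_zero _⟩ (fun a b _ _ ha hb => ?_)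
    (fun r a _ ha => ?_) (h V hV (rs N hVU t))
  · obtain ⟨i, rfl⟩ := hz
    exact ⟨(Sigma.ι (fun _ : ι => Coh.structureModule X) i).app V (1 : Γ(X, V)), rfl⟩
  · obtain ⟨a, rfl⟩ := ha
    obtain ⟨b, rfl⟩ := hb
    exact ⟨a + b, map_add _ _ _⟩
  · obtain ⟨a, rfl⟩ := ha
    exact ⟨r • a, Scheme.Modules.Hom.app_smul φ r a⟩

theorem toGlobal_res {A : Type u} [CommRing A] (f : X ⟶ Spec (CommRingCat.of A)) (U : X.Opens) (a : A) :
    X.presheaf.map (homOfLE (le_top : U ≤ ⊤)).op (Coh.toGlobal f a) =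
      f.appLE ⊤ U le_top ((Scheme.ΓSpecIso (CommRingCat.of A)).inv a) := rfl

variable {X₀ : Scheme.{u}} {A₀ A : CommRingCat.{u}}

/-- Sections of the structure sheaf on the preimage of an affine open in a closed subscheme of a base change
are generated by the ring of the base. -/
theorem span_preimage (f : X ⟶ Spec A) (f₀ : X₀ ⟶ Spec A₀) (ψ : A₀ ⟶ A) (q : X ⟶ X₀)
    (w : q ≫ f₀ = f ≫ Spec.map ψ) (hj : IsClosedImmersion (pullback.lift q f w))
    (U : X₀.Opens) (hU : IsAffineOpen U) (z : Γ(X, q ⁻¹ᵁ U)) :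
    letI := (q.app U).hom.toAlgebra
    z ∈ Submodule.span Γ(X₀, U) (Set.range fun a : A =>
      X.presheaf.map (homOfLE (le_top : q ⁻¹ᵁ U ≤ ⊤)).op (Coh.toGlobal f a)) := by
  letI := (q.app U).hom.toAlgebra
  let j := pullback.lift q f w
  let UY := pullback.fst f₀ (Spec.map ψ) ⁻¹ᵁ U ⊓ pullback.snd f₀ (Spec.map ψ) ⁻¹ᵁ ⊤
  have hUY : UY = pullback.fst f₀ (Spec.map ψ) ⁻¹ᵁ U := by simp [UY]
  have H := IsPullback.of_hasPullback f₀ (Spec.map ψ)
  have hpo := (isIso_pushoutSection_iff H (UX := U) (UT := (⊤ : (Spec A).Opens)) (US := ⊤) le_top le_top (UY := UY) rfl).mp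
    (isIso_pushoutSection_of_isAffineOpen H le_top le_top rfl (isAffineOpen_top _) (isAffineOpen_top _) hU)
  have hle : q ⁻¹ᵁ U ≤ j ⁻¹ᵁ UY := by
    rw [hUY, ← Scheme.Hom.comp_preimage, pullback.lift_fst]
  have hge : j ⁻¹ᵁ UY ≤ q ⁻¹ᵁ U := by
    rw [hUY, ← Scheme.Hom.comp_preimage, pullback.lift_fst]
  haveI : IsAffineHom (pullback.fst f₀ (Spec.map ψ)) := MorphismProperty.pullback_fst _ _ inferInstance
  have haff : IsAffineOpen UY := hUY ▸ hU.preimage _
  obtain ⟨p, hp⟩ : ∃ p, j.appLE UY (q ⁻¹ᵁ U) hle p = z := by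
    obtain ⟨p, hp⟩ := Scheme.Hom.app_surjective j UY haff (X.presheaf.map (homOfLE hge).op z)
    refine ⟨p, ?_⟩
    rw [Scheme.Hom.appLE, CommRingCat.comp_apply, hp, ← CommRingCat.comp_apply, ← X.presheaf.map_comp]
    rw [← op_comp, show homOfLE hle ≫ homOfLE hge = 𝟙 _ from Subsingleton.elim _ _, op_id, X.presheaf.map_id]
    rfl
  subst hp
  have hmem := mem_span_of_isPushout hpo p
  letI := ((pullback.fst f₀ (Spec.map ψ)).appLE U UY inf_le_left).hom.toAlgebra
  refine Submodule.span_induction (fun y hy => ?_) (by rw [map_zero]; exact zero_mem _)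
    (fun a b _ _ ha hb => by rw [map_add]; exact add_mem ha hb) (fun r a _ ha => ?_) hmem
  · obtain ⟨c, rfl⟩ := hy
    refine Submodule.subset_span ⟨(Scheme.ΓSpecIso A).hom c, ?_⟩
    show X.presheaf.map _ (Coh.toGlobal f _) = _
    rw [toGlobal_res]
    show _ = ((pullback.snd f₀ (Spec.map ψ)).appLE ⊤ UY inf_le_right ≫ j.appLE UY (q ⁻¹ᵁ U) hle) c
    rw [Scheme.Hom.appLE_comp_appLE]
    simp [j]
  · have h2 : j.appLE UY (q ⁻¹ᵁ U) hle (r • a) = r • j.appLE UY (q ⁻¹ᵁ U) hle a := by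
      rw [Algebra.smul_def, Algebra.smul_def, map_mul]
      congr 1
      show ((pullback.fst f₀ (Spec.map ψ)).appLE U UY inf_le_left ≫ j.appLE UY (q ⁻¹ᵁ U) hle) r = q.app U r
      rw [Scheme.Hom.appLE_comp_appLE, Scheme.Hom.app_eq_appLE]
      simp [j]
    rw [h2]
    exact Submodule.smul_mem _ r ha

end Groth.Agent.H7Flat.CohDim
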