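import Groth.Agent.H7Flat.CohDim.Model
import Groth.Agent.H7Flat.CohDim.Generation

/-!
# The first cohomology of the structure sheaf of a proper scheme with fibres of dimension `≤ 1`

It is a finite module over the base, and it vanishes over a local base if it vanishes on the closed fibre.
-/

set_option autoImplicit false
set_option linter.style.haveILetI false
set_option backward.isDefEq.respectTransparency false

noncomputable section

universe u

open CategoryTheory CategoryTheory.Limits AlgebraicGeometry Opposite TopologicalSpace Abelian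

namespace Groth.Agent.H7Flat.CohDim

open Groth.Agent.H10Coh

attribute [local instance 10000] hasSheafifyAb hasWeakSheafifyAb hasExtAb enoughInjAb
attribute [local instance] enoughInjMod

variable {X Y : Scheme.{u}}

/-- Cohomology of the pushforward along an affine morphism. -/
def lerayHH (q : X ⟶ Y) [IsAffineHom q] (M : X.Modules) [M.IsQuasicoherent] (n : ℕ) :
    Coh.HH Y ((Coh.push q).obj M) n ≃+ Coh.HH X M n :=
  (topEquiv (sh ((Coh.push q).obj M)) n).trans ((affineLerayEquiv q M n ⊤).trans (topEquiv (sh M) n).symm)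

theorem lerayHH_smul (q : X ⟶ Y) [IsAffineHom q] (M : X.Modules) [M.IsQuasicoherent] (n : ℕ)
    (r : Coh.Γtop X) (z : Coh.HH Y ((Coh.push q).obj M) n) :
    lerayHH q M n (hm ((Coh.push q).map (Formal.smulModΓ M r)) n z) =
      hm (Formal.smulModΓ M r) n (lerayHH q M n z) := by
  apply (topEquiv (sh M) n).injective
  have h1 : topEquiv (sh M) n (lerayHH q M n (hm ((Coh.push q).map (Formal.smulModΓ M r)) n z)) =
      affineLerayEquiv q M n ⊤ (topEquiv _ n (hm ((Coh.push q).map (Formal.smulModΓ M r)) n z)) :=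
    AddEquiv.apply_symm_apply _ _
  have h2 : topEquiv (sh M) n (lerayHH q M n z) = affineLerayEquiv q M n ⊤ (topEquiv _ n z) :=
    AddEquiv.apply_symm_apply _ _
  rw [h1, topEquiv_hm, topEquiv_hm, h2]
  exact FRes.pushEquiv_natural q.base (mResSmul (MRes.inj M) r) (epi_push_of_isAffineHom q M)
    (epi_push_of_isAffineHom q M) n ⊤ _

/-- Pulling global functions back commutes with `O_Y ⟶ q_* O_X`. -/
theorem smul_unitToPush (q : X ⟶ Y) (r : Coh.Γtop Y) :
    Formal.smulModΓ (Coh.structureModule Y) r ≫ ClSub.unitToPush q =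
      ClSub.unitToPush q ≫ (Coh.push q).map (Formal.smulModΓ (Coh.structureModule X) (q.appTop r)) := by
  refine LeadFF.hom_ext_sections _ _ fun U s => ?_
  let s' : Γ(Y, U) := s
  change q.app U (Y.presheaf.map (homOfLE (le_top : U ≤ ⊤)).op r * s') =
    X.presheaf.map (homOfLE (le_top : q ⁻¹ᵁ U ≤ ⊤)).op (q.appTop r) * q.app U s'
  rw [map_mul]
  congr 1
  exact congr($(q.naturality (homOfLE (le_top : U ≤ ⊤)).op) r)

theorem appTop_toGlobal {A₀ A : CommRingCat.{u}} (f : X ⟶ Spec A) (f₀ : Y ⟶ Spec A₀) (ψ : A₀ ⟶ A) (q : X ⟶ Y)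
    (w : q ≫ f₀ = f ≫ Spec.map ψ) (a : A₀) :
    q.appTop (Coh.toGlobal f₀ a) = Coh.toGlobal f (ψ a) := by
  show (f₀.appTop ≫ q.appTop) ((Scheme.ΓSpecIso A₀).inv a) = f.appTop ((Scheme.ΓSpecIso A).inv (ψ a))
  rw [← Scheme.Hom.comp_appTop, w, Scheme.Hom.comp_appTop]
  exact congrArg (fun t => f.appTop t) congr($(Scheme.ΓSpecIso_inv_naturality ψ) a).symm

/-- The first cohomology of a closed subscheme of a base change is spanned by classes pulled back from the
original scheme, if `H²` of quasi-coherent modules vanishes there. -/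
theorem exists_pullMap {A₀ A : CommRingCat.{u}} {X₀ : Scheme.{u}} [X.Over (Spec (CommRingCat.of A))]
    [X₀.Over (Spec (CommRingCat.of A₀))] [IsSeparated (X₀ ↘ Spec (CommRingCat.of A₀))] [QuasiCompact (X₀ ↘ Spec (CommRingCat.of A₀))]
    (f : X ⟶ Spec A) (f₀ : X₀ ⟶ Spec A₀) (hf : (X ↘ Spec (CommRingCat.of A)) = f)
    (hf₀ : (X₀ ↘ Spec (CommRingCat.of A₀)) = f₀)
    (ψ : A₀ ⟶ A) (q : X ⟶ X₀) (w : q ≫ f₀ = f ≫ Spec.map ψ) (hj : IsClosedImmersion (pullback.lift q f w))
    (hvan : ∀ M : X₀.Modules, Coh.IsQCoh M → Subsingleton (Coh.HH X₀ M (1 + 1))) :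
    ∃ u : Coh.HH X₀ (Coh.structureModule X₀) 1 →+ Coh.HH X (Coh.structureModule X) 1,
      (∀ (a₀ : A₀) (y : Coh.HH X₀ (Coh.structureModule X₀) 1), u (a₀ • y) = ψ a₀ • u y) ∧
      ∀ x : Coh.HH X (Coh.structureModule X) 1, x ∈ Submodule.span A (Set.range u) := by
  classical
  subst hf hf₀
  let f : X ⟶ Spec A := X ↘ Spec (CommRingCat.of A)
  let f₀ : X₀ ⟶ Spec A₀ := X₀ ↘ Spec (CommRingCat.of A₀)
  haveI : IsSeparated f₀ := ‹_›
  haveI : QuasiCompact f₀ := ‹_›
  haveI := hj
  haveI : IsAffineHom (pullback.fst f₀ (Spec.map ψ)) := MorphismProperty.pullback_fst _ _ inferInstance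
  haveI : IsAffineHom q := by
    rw [← pullback.lift_fst q f w]
    infer_instance
  haveI : CompactSpace X₀ := QuasiCompact.compactSpace_of_compactSpace f₀
  haveI : QuasiSeparatedSpace X₀ := quasiSeparatedSpace_of_quasiSeparated f₀
  haveI : (Coh.structureModule X).IsQuasicoherent := isQuasicoherent_unit
  let O₀ := Coh.structureModule X₀
  let O := Coh.structureModule X
  let G := (Coh.push q).obj O
  haveI : G.IsQuasicoherent := isQuasicoherent_pushforward_of_isAffineHom q _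
  let φ₁ : O₀ ⟶ G := ClSub.unitToPush q
  let Φ : (∐ fun _ : A => O₀) ⟶ G :=
    Sigma.desc fun a : A => φ₁ ≫ (Coh.push q).map (Formal.smulMod A O a)
  haveI : Epi Φ := by
    refine epi_of_span Φ fun U hU z => ?_
    letI := (q.app U).hom.toAlgebra
    have key : ∀ a : A, (Sigma.ι (fun _ : A => O₀) a ≫ Φ).app U (1 : Γ(X₀, U)) =
        (X.presheaf.map (homOfLE (le_top : q ⁻¹ᵁ U ≤ ⊤)).op (Coh.toGlobal f a) : Γ(X, q ⁻¹ᵁ U)) := by
      intro a
      rw [Sigma.ι_desc]
      change X.presheaf.map (homOfLE (le_top : q ⁻¹ᵁ U ≤ ⊤)).op (Coh.toGlobal f a) * q.app U 1 = _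
      rw [map_one, mul_one]
    have hz := span_preimage f f₀ ψ q w hj U hU z
    refine Submodule.span_induction (fun y hy => ?_) (zero_mem _) (fun a b _ _ ha hb => add_mem ha hb)
      (fun r a _ ha => ?_) hz
    · obtain ⟨a, rfl⟩ := hy
      exact Submodule.subset_span ⟨a, key a⟩
    · exact Submodule.smul_mem _ r ha
  haveI : (∐ fun _ : A => O₀).IsQuasicoherent := isQuasicoherent_coproduct _ fun _ => isQuasicoherent_unit
  have h2 : Subsingleton (Coh.HH X₀ (kernel Φ) (1 + 1)) := hvan _ (isQuasicoherent_kernel Φ)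
  let L := lerayHH q O 1
  let u : Coh.HH X₀ O₀ 1 →+ Coh.HH X O 1 := L.toAddMonoidHom.comp (hm φ₁ 1)
  have hu : ∀ (a₀ : A₀) (y : Coh.HH X₀ O₀ 1), u (a₀ • y) = ψ a₀ • u y := by
    intro a₀ y
    show L (hm φ₁ 1 (LeadFF.Hm (Formal.smulMod A₀ O₀ a₀) 1 y)) = LeadFF.Hm (Formal.smulMod A O (ψ a₀)) 1 (L (hm φ₁ 1 y))
    have h := smul_unitToPush q (Coh.toGlobal f₀ a₀)
    rw [appTop_toGlobal f f₀ ψ q w] at h
    rw [show hm φ₁ 1 (LeadFF.Hm (Formal.smulMod A₀ O₀ a₀) 1 y) =
      hm ((Coh.push q).map (Formal.smulMod A O (ψ a₀))) 1 (hm φ₁ 1 y) from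
        (LeadFF.Hm_comp _ _ 1 y).symm.trans ((congrArg (fun g => LeadFF.Hm g 1 y) h).trans (LeadFF.Hm_comp _ _ 1 y))]
    exact lerayHH_smul q O 1 _ _
  refine ⟨u, hu, fun x => ?_⟩
  obtain ⟨t, y, hy⟩ := exists_sum_of_epi Φ 1 h2 (L.symm x)
  have hx : x = ∑ a ∈ t, (a : A) • u (y a) := by
    rw [← L.apply_symm_apply x, hy, map_sum]
    refine Finset.sum_congr rfl fun a _ => ?_
    rw [Sigma.ι_desc, show hm (φ₁ ≫ (Coh.push q).map (Formal.smulMod A O a)) 1 (y a) =
      hm ((Coh.push q).map (Formal.smulMod A O a)) 1 (hm φ₁ 1 (y a)) from LeadFF.Hm_comp _ _ 1 _]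
    exact lerayHH_smul q O 1 _ _
  rw [hx]
  exact sum_mem fun a _ => Submodule.smul_mem _ _ (Submodule.subset_span ⟨_, rfl⟩)


/-- `H¹(X, O_X)` is finite over `A` for `X` proper over `A` with fibres of dimension `≤ 1`. -/
theorem finite_HH_one {A : CommRingCat.{u}} [X.Over (Spec (CommRingCat.of A))]
    [IsProper (X ↘ Spec (CommRingCat.of A))]
    (hd : ∀ s : Spec A, topologicalKrullDim ↥((X ↘ Spec (CommRingCat.of A)).fiber s) ≤ (1 : ℕ)) :
    Module.Finite A (Coh.HH X (Coh.structureModule X) 1) := by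
  classical
  let f : X ⟶ Spec A := X ↘ Spec (CommRingCat.of A)
  haveI : IsProper f := ‹_›
  obtain ⟨A₀, hA₀, ψ, X₀, f₀, q, w, hf₀, hd₀, hj⟩ := exists_model f 1 hd
  haveI := hA₀
  haveI := hf₀
  haveI := hj
  letI : X₀.Over (Spec (CommRingCat.of A₀)) := ⟨f₀⟩
  haveI : IsProper (X₀ ↘ Spec (CommRingCat.of A₀)) := hf₀
  haveI : CompactSpace X₀ := QuasiCompact.compactSpace_of_compactSpace f₀
  haveI : IsNoetherianRing (CommRingCat.of A₀) := hA₀
  haveI : IsLocallyNoetherian X₀ := LocallyOfFiniteType.isLocallyNoetherian f₀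
  haveI : Module.Finite A₀ (Coh.HH X₀ (Coh.structureModule X₀) 1) :=
    finite_HH_proper A₀ X₀ _ (isCoh_structureModule' X₀) 1
  obtain ⟨u, hu, hspan⟩ := exists_pullMap f f₀ rfl rfl ψ q w hj
    (fun M hM => haveI := hM; subsingleton_HH f₀ 1 hd₀ M (1 + 1) (by norm_num))
  obtain ⟨s, hs⟩ := Module.Finite.fg_top (R := A₀) (M := Coh.HH X₀ (Coh.structureModule X₀) 1)
  refine ⟨Submodule.fg_def.mpr ⟨u '' (s : Set (Coh.HH X₀ (Coh.structureModule X₀) 1)), s.finite_toSet.image u,
    eq_top_iff.mpr fun x _ => ?_⟩⟩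
  refine Submodule.span_le.mpr ?_ (hspan x)
  rintro _ ⟨y, rfl⟩
  have hy' : y ∈ Submodule.span A₀ (s : Set (Coh.HH X₀ (Coh.structureModule X₀) 1)) := by rw [hs]; trivial
  refine Submodule.span_induction (fun z hz => ?_) ?_ (fun a b _ _ ha hb => ?_) (fun r a _ ha => ?_) hy'
  · exact Submodule.subset_span ⟨z, hz, rfl⟩
  · rw [map_zero]; exact zero_mem _
  · rw [map_add]; exact add_mem ha hb
  · rw [hu]; exact Submodule.smul_mem _ _ ha

/-- Over a local base, vanishing of `H¹` of the structure sheaf on the closed fibre implies vanishing. -/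
theorem subsingleton_HH_one_local {R : CommRingCat.{u}} [IsLocalRing R] (f : X ⟶ Spec R) [IsProper f]
    (hd : topologicalKrullDim ↥(f.fiber (IsLocalRing.closedPoint R : Spec R)) ≤ (1 : ℕ))
    {k : CommRingCat.{u}} (π : R ⟶ k) (hπ : Function.Surjective π.hom)
    (hker : RingHom.ker π.hom = IsLocalRing.maximalIdeal R)
    {Xk : Scheme.{u}} (i : Xk ⟶ X) (fk : Xk ⟶ Spec k) (sq : IsPullback i fk f (Spec.map π))
    (h1 : Subsingleton (Coh.HH Xk (Coh.structureModule Xk) 1)) :
    Subsingleton (Coh.HH X (Coh.structureModule X) 1) := by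
  classical
  letI : X.Over (Spec (CommRingCat.of R)) := ⟨f⟩
  haveI : IsProper (X ↘ Spec (CommRingCat.of R)) := ‹IsProper f›
  have hall := dim_fiber_le_of_local f 1 hd
  haveI hfin := finite_HH_one (X := X) (A := R) hall
  haveI : IsClosedImmersion (Spec.map π) := IsClosedImmersion.spec_of_surjective π hπ
  haveI : IsClosedImmersion i := MorphismProperty.of_isPullback sq.flip ‹IsClosedImmersion (Spec.map π)›
  haveI : CompactSpace X := QuasiCompact.compactSpace_of_compactSpace f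
  haveI : QuasiSeparatedSpace X := quasiSeparatedSpace_of_quasiSeparated f
  let O := Coh.structureModule X
  let Ok := Coh.structureModule Xk
  haveI : O.IsQuasicoherent := isQuasicoherent_unit
  haveI : Ok.IsQuasicoherent := isQuasicoherent_unit
  let G := (Coh.push i).obj Ok
  haveI : G.IsQuasicoherent := isQuasicoherent_pushforward_of_isAffineHom i _
  let v : O ⟶ G := ClSub.unitToPush i
  haveI : Epi v := by
    apply (shF X).epi_of_epi_map
    refine epi_of_locally_surjective _ fun U t x hx => ?_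
    obtain ⟨V, hV, hxV, hVU⟩ := Opens.isBasis_iff_nbhd.1 X.isBasis_affineOpens hx
    exact ⟨V, hVU, hxV, Scheme.Hom.app_surjective i V hV (rs G hVU t)⟩
  let m := IsLocalRing.maximalIdeal R
  have hzero : ∀ t : m, Formal.smulMod R O (t : R) ≫ v = 0 := by
    intro t
    have ht : π.hom (t : R) = 0 := by
      rw [← RingHom.mem_ker, hker]; exact t.2
    show Formal.smulModΓ O (Coh.toGlobal f (t : R)) ≫ v = 0
    rw [smul_unitToPush, appTop_toGlobal fk f π i sq.w, show π (t : R) = 0 from ht, map_zero]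
    refine LeadFF.hom_ext_sections _ _ fun U s => ?_
    change Xk.presheaf.map (homOfLE (le_top : i ⁻¹ᵁ U ≤ ⊤)).op 0 * i.app U s = 0
    rw [map_zero, zero_mul]
  let Ψ : (∐ fun _ : m => O) ⟶ kernel v :=
    Sigma.desc fun t => kernel.lift v (Formal.smulMod R O (t : R)) (hzero t)
  haveI : Epi Ψ := by
    refine epi_of_span Ψ fun U hU z => ?_
    have hz : (ClSub.unitToPush i).app U ((kernel.ι v).app U z) = 0 := by
      show ((kernel.ι v ≫ v).app U) z = 0
      rw [kernel.condition]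
      rfl
    let x : Γ(X, U) := (kernel.ι v).app U z
    have hx0 : i.app U x = 0 := hz
    have hpo := (isIso_pushoutSection_iff sq (UX := U) (UT := (⊤ : (Spec k).Opens)) (US := ⊤) le_top le_top
      (UY := i ⁻¹ᵁ U ⊓ fk ⁻¹ᵁ ⊤) rfl).mp
      (isIso_pushoutSection_of_isAffineOpen sq le_top le_top rfl (isAffineOpen_top _) (isAffineOpen_top _) hU)
    have hsurj : Function.Surjective ((Spec.map π).appLE ⊤ ⊤ le_top).hom := by
      intro y
      obtain ⟨b, hb⟩ := hπ ((Scheme.ΓSpecIso k).hom y)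
      refine ⟨(Scheme.ΓSpecIso R).inv b, ?_⟩
      rw [show (Spec.map π).appLE ⊤ ⊤ le_top = (Spec.map π).appTop from Scheme.Hom.appLE_eq_app _]
      have := congr($(Scheme.ΓSpecIso_inv_naturality π) b)
      refine this.symm.trans ?_
      show (Scheme.ΓSpecIso k).inv (π.hom b) = y
      rw [hb]
      exact congr($((Scheme.ΓSpecIso k).hom_inv_id) y)
    have hxm := mem_map_ker_of_isPushout hpo hsurj x (by
      show i.appLE U _ _ x = 0
      rw [Scheme.Hom.appLE, CommRingCat.comp_apply, hx0, map_zero])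
    have hinj : Function.Injective ((kernel.ι v).app U) := by
      haveI : Mono (Scheme.Modules.toPresheaf X |>.map (kernel.ι v)) := inferInstance
      exact (AddCommGrpCat.mono_iff_injective _).mp
        (inferInstanceAs (Mono (((Scheme.Modules.toPresheaf X).map (kernel.ι v)).app (op U))))
    suffices h : ∃ z', z' ∈ Submodule.span Γ(X, U) (Set.range fun t : m =>
        (Sigma.ι (fun _ : m => O) t ≫ Ψ).app U (1 : Γ(X, U))) ∧ (kernel.ι v).app U z' = (kernel.ι v).app U z by
      obtain ⟨z', hz', he⟩ := h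
      exact hinj he ▸ hz'
    refine Submodule.span_induction (p := fun y _ => ∃ z', z' ∈ Submodule.span Γ(X, U) (Set.range fun t : m =>
        (Sigma.ι (fun _ : m => O) t ≫ Ψ).app U (1 : Γ(X, U))) ∧ (kernel.ι v).app U z' = y)
      (fun y hy => ?_) ⟨0, zero_mem _, map_zero _⟩
      (fun a b _ _ ⟨a', ha', ha⟩ ⟨b', hb', hb⟩ => ⟨a' + b', add_mem ha' hb', by rw [map_add, ha, hb]⟩)
      (fun r a _ ⟨a', ha', ha⟩ => ⟨r • a', Submodule.smul_mem _ r ha', by rw [Scheme.Modules.Hom.app_smul, ha]⟩)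
      hxm
    obtain ⟨b, hb, rfl⟩ := hy
    let t : R := (Scheme.ΓSpecIso R).hom b
    have ht : t ∈ m := by
      show t ∈ IsLocalRing.maximalIdeal R
      rw [← hker, RingHom.mem_ker]
      have h0 : ((Spec.map π).appLE ⊤ ⊤ le_top) b = 0 := hb
      rw [show (Spec.map π).appLE ⊤ ⊤ le_top = (Spec.map π).appTop from Scheme.Hom.appLE_eq_app _] at h0
      have := congr($(Scheme.ΓSpecIso_naturality π) b)
      refine this.symm.trans ?_
      show (Scheme.ΓSpecIso k).hom ((Spec.map π).appTop b) = 0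
      rw [show (Spec.map π).appTop b = 0 from h0, map_zero]
    refine ⟨_, Submodule.subset_span ⟨⟨t, ht⟩, rfl⟩, ?_⟩
    show ((Sigma.ι (fun _ : m => O) ⟨t, ht⟩ ≫ Ψ) ≫ kernel.ι v).app U (1 : Γ(X, U)) = _
    rw [Sigma.ι_desc, kernel.lift_ι]
    change X.presheaf.map (homOfLE (le_top : U ≤ ⊤)).op (Coh.toGlobal f t) * (1 : Γ(X, U)) = _
    rw [mul_one, toGlobal_res]
    congr 1
    exact congr($((Scheme.ΓSpecIso R).hom_inv_id) b)
  haveI : (kernel v).IsQuasicoherent := isQuasicoherent_kernel v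
  haveI : (∐ fun _ : m => O).IsQuasicoherent := isQuasicoherent_coproduct _ fun _ => isQuasicoherent_unit
  have h2 : Subsingleton (Coh.HH X (kernel Ψ) (1 + 1)) := by
    haveI : (kernel Ψ).IsQuasicoherent := isQuasicoherent_kernel Ψ
    exact subsingleton_HH f 1 hall _ (1 + 1) (by norm_num)
  haveI : Subsingleton (Coh.HH X G 1) := @Equiv.subsingleton _ _ (lerayHH i Ok 1).toEquiv h1
  have htop : (⊤ : Submodule R (Coh.HH X O 1)) ≤ m • ⊤ := by
    intro x _
    have hS : (ShortComplex.mk (kernel.ι v) v (kernel.condition v)).ShortExact :=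
      { exact := ShortComplex.exact_of_f_is_kernel _ (kernelIsKernel v) }
    obtain ⟨z₁, hz₁⟩ := Ext.covariant_sequence_exact₂ _ (shortExact_sh hS) (topEquiv (sh O) 1 x) (by
      show postH ((shF X).map v) 1 ⊤ (topEquiv (sh O) 1 x) = 0
      rw [← topEquiv_hm, Subsingleton.elim (hm v 1 x) 0, map_zero])
    let z : Coh.HH X (kernel v) 1 := (topEquiv (sh (kernel v)) 1).symm z₁
    have hzx : hm (kernel.ι v) 1 z = x := (topEquiv (sh O) 1).injective (by
      rw [topEquiv_hm, AddEquiv.apply_symm_apply]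
      exact hz₁)
    obtain ⟨T, y, hy⟩ := exists_sum_of_epi Ψ 1 h2 z
    rw [← hzx, hy, map_sum]
    refine sum_mem fun t _ => ?_
    have : hm (kernel.ι v) 1 (hm (Sigma.ι (fun _ : m => O) t ≫ Ψ) 1 (y t)) = (t : R) • y t := by
      rw [Sigma.ι_desc]
      refine (LeadFF.Hm_comp _ _ 1 _).symm.trans ?_
      rw [kernel.lift_ι]
      rfl
    rw [this]
    exact Submodule.smul_mem_smul t.2 trivial
  have := Submodule.eq_bot_of_le_smul_of_le_jacobson_bot m ⊤ Module.Finite.fg_top htop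
    (IsLocalRing.maximalIdeal_le_jacobson _)
  exact subsingleton_of_forall_eq 0 fun x => (Submodule.mem_bot R).1 (this ▸ Submodule.mem_top)

end Groth.Agent.H7Flat.CohDim
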