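import Groth.Agent.LeadFF.Gen
import Groth.Agent.H15Site.QcColim
import Groth.Agent.H16Derived.ColimPush.Sheaf
import Groth.Agent.H10Coh.QCohOps
import Groth.Agent.H10Coh.SubMod
import Mathlib.CategoryTheory.Limits.Constructions.Filtered

/-!
# Right exactness of cohomology in the top degree

If `H^{n+1}` of the kernel of an epimorphism vanishes, the map on `Hⁿ` is surjective; on a qcqs scheme
every class of a coproduct is a finite sum of classes of the summands.
-/

set_option autoImplicit false
set_option linter.style.haveILetI false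
set_option backward.isDefEq.respectTransparency false

noncomputable section

universe u

open CategoryTheory CategoryTheory.Limits AlgebraicGeometry Opposite TopologicalSpace Abelian

namespace Groth.Agent.H7Flat.CohDim

open Groth.Agent.H10Coh

attribute [local instance 10000] hasSheafifyAb hasWeakSheafifyAb hasExtAb enoughInjAb

variable {X : Scheme.{u}}

/-- The map on cohomology of a morphism of modules. -/
abbrev hm {M N : X.Modules} (f : M ⟶ N) (n : ℕ) : Coh.HH X M n →+ Coh.HH X N n := LeadFF.Hm f n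

theorem topEquiv_hm {M N : X.Modules} (f : M ⟶ N) (n : ℕ) (x : Coh.HH X M n) :
    topEquiv (sh N) n (hm f n x) = postH ((shF X).map f) n ⊤ (topEquiv (sh M) n x) :=
  topEquiv_map _ n x

/-- An epimorphism whose kernel has no cohomology in degree `n + 1` is surjective in degree `n`. -/
theorem hm_surjective_of_epi {M N : X.Modules} (φ : M ⟶ N) [Epi φ] (n : ℕ)
    (h : Subsingleton (Coh.HH X (kernel φ) (n + 1))) : Function.Surjective (hm φ n) := by
  have hS : (ShortComplex.mk (kernel.ι φ) φ (kernel.condition φ)).ShortExact :=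
    { exact := ShortComplex.exact_of_f_is_kernel _ (kernelIsKernel φ) }
  have hS' := shortExact_sh hS
  haveI : Subsingleton (HnM (kernel φ) (n + 1) ⊤) :=
    (topEquiv (sh (kernel φ)) (n + 1)).symm.toEquiv.subsingleton
  intro x
  obtain ⟨y, hy⟩ := Ext.covariant_sequence_exact₃ _ hS' (topEquiv (sh N) n x) rfl (Subsingleton.elim (α := HnM (kernel φ) (n + 1) ⊤) _ _)
  refine ⟨(topEquiv (sh M) n).symm y, (topEquiv (sh N) n).injective ?_⟩
  rw [topEquiv_hm, AddEquiv.apply_symm_apply]
  exact hy

/-- Cohomology classes of a finite coproduct. -/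
theorem exists_sum_of_finite {ι : Type u} [Fintype ι] (F : ι → X.Modules) (n : ℕ)
    (x : Coh.HH X (∐ F) n) : ∃ y : ∀ i, Coh.HH X (F i) n, x = ∑ i, hm (Sigma.ι F i) n (y i) := by
  classical
  let π : ∀ i, (∐ F) ⟶ F i := fun i => Sigma.desc (Function.update (fun j => (0 : F j ⟶ F i)) i (𝟙 (F i)))
  have hid : 𝟙 (∐ F) = ∑ i, π i ≫ Sigma.ι F i := by
    refine Sigma.hom_ext _ _ fun j => ?_
    rw [Category.comp_id, Preadditive.comp_sum, Finset.sum_eq_single j]
    · simp [π]
    · intro i _ hij
      simp [π, Function.update_of_ne (Ne.symm hij)]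
    · simp
  refine ⟨fun i => hm (π i) n x, ?_⟩
  conv_lhs => rw [← LeadFF.Hm_id (∐ F) n x]
  rw [hid]
  let Φ : ((∐ F) ⟶ ∐ F) →+ Coh.HH X (∐ F) n :=
    AddMonoidHom.mk' (fun a => LeadFF.Hm a n x) fun a b => LeadFF.Hm_add a b n x
  show Φ (∑ i, π i ≫ Sigma.ι F i) = _
  rw [map_sum]
  exact Finset.sum_congr rfl fun i _ => LeadFF.Hm_comp _ _ n x

/-- On a qcqs scheme every class of a coproduct is a finite sum of classes of the summands. -/
theorem exists_sum_sigma [CompactSpace X] [QuasiSeparatedSpace X] {ι : Type u} (F : ι → X.Modules) (n : ℕ)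
    (x : Coh.HH X (∐ F) n) :
    ∃ (s : Finset ι) (y : ∀ i, Coh.HH X (F i) n), x = ∑ i ∈ s, hm (Sigma.ι F i) n (y i) := by
  classical
  haveI : PrespectralSpace X.toTopCat := inferInstanceAs (PrespectralSpace X)
  haveI : QuasiSeparatedSpace X.toTopCat := inferInstanceAs (QuasiSeparatedSpace X)
  haveI : CompactSpace X.toTopCat := inferInstanceAs (CompactSpace X)
  let c := CoproductsFromFiniteFiltered.finiteSubcoproductsCocone F
  let hc : IsColimit c := CoproductsFromFiniteFiltered.isColimitFiniteSubproductsCocone F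
  obtain ⟨S, y, hy⟩ := (H15Site.QcColim.commutes n _ _
    (H16Derived.ColimPush.nonempty_isColimit_sh hc).some ⊤ isCompact_univ).1 (topEquiv _ n x)
  let G : S → X.Modules := fun s => F s.1.as
  let x₀ : Coh.HH X (∐ G) n := (topEquiv (sh (∐ G)) n).symm y
  let j : (∐ G) ⟶ ∐ F := Sigma.desc fun s => Sigma.ι F s.1.as
  have hx : x = hm j n x₀ := (topEquiv (sh (∐ F)) n).injective (by
    rw [topEquiv_hm, AddEquiv.apply_symm_apply]
    exact hy.symm)
  obtain ⟨z, hz⟩ := exists_sum_of_finite G n x₀
  let e : S → ι := fun s => s.1.as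
  refine ⟨Finset.univ.image e, fun i => if h : ∃ s, e s = i then h.choose_spec ▸ z h.choose else 0, ?_⟩
  rw [hx, hz, map_sum, Finset.sum_image fun a _ b _ h => Subtype.ext (Discrete.ext h)]
  refine Finset.sum_congr rfl fun s _ => ?_
  rw [← LeadFF.Hm_comp, Sigma.ι_desc]
  have h : ∃ s', e s' = e s := ⟨s, rfl⟩
  have hs : h.choose = s := Subtype.ext (Discrete.ext h.choose_spec)
  dsimp only
  rw [dif_pos h]
  congr 1
  have key : ∀ (s' : S) (p : s' = s) (q : e s' = e s), (q ▸ z s' : Coh.HH X (F (e s)) n) = z s := by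
    intro s' p q
    subst p
    rfl
  exact (key _ hs h.choose_spec).symm

/-- A class of the target of an epimorphism from a coproduct is a finite sum of images of classes of the
summands, if the next cohomology of the kernel vanishes. -/
theorem exists_sum_of_epi [CompactSpace X] [QuasiSeparatedSpace X] {ι : Type u} {F : ι → X.Modules}
    {N : X.Modules} (φ : (∐ F) ⟶ N) [Epi φ] (n : ℕ) (h : Subsingleton (Coh.HH X (kernel φ) (n + 1)))
    (x : Coh.HH X N n) :
    ∃ (s : Finset ι) (y : ∀ i, Coh.HH X (F i) n), x = ∑ i ∈ s, hm (Sigma.ι F i ≫ φ) n (y i) := by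
  obtain ⟨x', rfl⟩ := hm_surjective_of_epi φ n h x
  obtain ⟨s, y, rfl⟩ := exists_sum_sigma F n x'
  refine ⟨s, y, ?_⟩
  rw [map_sum]
  exact Finset.sum_congr rfl fun i _ => (LeadFF.Hm_comp _ _ n _).symm

/-- A quasi-coherent quotient of copies of `O_X` inherits the vanishing of `H¹(X, O_X)` when `H²` vanishes. -/
theorem subsingleton_of_epi_coprod [CompactSpace X] [QuasiSeparatedSpace X] {ι : Type u}
    {N : X.Modules} [N.IsQuasicoherent] (φ : (∐ fun _ : ι => Coh.structureModule X) ⟶ N) [Epi φ] (n : ℕ)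
    (h2 : ∀ M : X.Modules, Coh.IsQCoh M → Subsingleton (Coh.HH X M (n + 1)))
    (h1 : Subsingleton (Coh.HH X (Coh.structureModule X) n)) : Subsingleton (Coh.HH X N n) := by
  haveI := isQuasicoherent_coproduct (fun _ : ι => Coh.structureModule X) fun _ => isQuasicoherent_unit
  refine subsingleton_of_forall_eq 0 fun x => ?_
  obtain ⟨s, y, rfl⟩ := exists_sum_of_epi φ n (h2 _ (isQuasicoherent_kernel φ)) x
  exact Finset.sum_eq_zero fun i _ => by rw [Subsingleton.elim (y i) 0, map_zero]

end Groth.Agent.H7Flat.CohDim
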