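import Groth.Agent.H7Flat.CohDim.H1
import Groth.Agent.LeadBC.SectRpush
import Groth.Agent.H16Derived.KFlat.FinLocFree
import Groth.Agent.H29Fitt.Sheaf

/-!
# `R¹f_* O_X` near a fibre of dimension `≤ 1` with vanishing `H¹`
-/

set_option autoImplicit false
set_option linter.style.haveILetI false
set_option backward.isDefEq.respectTransparency false

noncomputable section

universe u

open CategoryTheory CategoryTheory.Limits AlgebraicGeometry Opposite TopologicalSpace

namespace Groth.Agent.H7Flat.CohDim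

open Groth.Agent.H10Coh

attribute [local instance 10000] hasSheafifyAb hasWeakSheafifyAb hasExtAb enoughInjAb
attribute [local instance] enoughInjMod

variable {X Y : Scheme.{u}}

theorem subsingleton_HH_of_iso {M N : X.Modules} (e : M ≅ N) (n : ℕ) (h : Subsingleton (Coh.HH X M n)) :
    Subsingleton (Coh.HH X N n) :=
  subsingleton_of_forall_eq 0 fun x => by
    calc x = hm (e.inv ≫ e.hom) n x := by rw [e.inv_hom_id]; exact (LeadFF.Hm_id N n x).symm
      _ = hm e.hom n (hm e.inv n x) := LeadFF.Hm_comp _ _ n x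
      _ = 0 := by rw [Subsingleton.elim (hm e.inv n x) 0, map_zero]

/-- Over the local ring of a point whose fibre has dimension `≤ 1` and vanishing `H¹`. -/
theorem subsingleton_HH_one_stalk (f : X ⟶ Y) [IsProper f] (y : Y)
    (hd : topologicalKrullDim ↥(f.fiber y) ≤ (1 : ℕ))
    (h1 : Subsingleton (Coh.HH (f.fiber y) (Coh.structureModule (f.fiber y)) 1)) :
    Subsingleton (Coh.HH (pullback f (Y.fromSpecStalk y)) (Coh.structureModule _) 1) := by
  haveI : IsProper (pullback.snd f (Y.fromSpecStalk y)) := MorphismProperty.pullback_snd _ _ inferInstance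
  let i : f.fiber y ⟶ pullback f (Y.fromSpecStalk y) :=
    pullback.lift (pullback.fst f (Y.fromSpecResidueField y))
      (f.fiberToSpecResidueField y ≫ Spec.map (Y.residue y))
      (by rw [Category.assoc]; exact pullback.condition)
  have sq : IsPullback i (f.fiberToSpecResidueField y) (pullback.snd f (Y.fromSpecStalk y))
      (Spec.map (Y.residue y)) :=
    IsPullback.of_right (by rw [pullback.lift_fst]; exact IsPullback.of_hasPullback _ _)
      (pullback.lift_snd _ _ _) (IsPullback.of_hasPullback f (Y.fromSpecStalk y))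
  refine subsingleton_HH_one_local (pullback.snd f (Y.fromSpecStalk y)) ?_ (Y.residue y)
    IsLocalRing.residue_surjective IsLocalRing.ker_residue i _ sq h1
  rw [dim_fiber_eq (IsPullback.of_hasPullback f (Y.fromSpecStalk y)), Scheme.fromSpecStalk_closedPoint]
  exact hd

/-- The stalk of `R¹f_*` of a globally generated module vanishes. -/
theorem subsingleton_stalk_one (f : X ⟶ Y) [IsProper f] [HasInjectiveResolutions X.Modules] (y : Y)
    (hd : topologicalKrullDim ↥(f.fiber y) ≤ (1 : ℕ))
    (h1 : Subsingleton (Coh.HH (f.fiber y) (Coh.structureModule (f.fiber y)) 1))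
    (F : X.Modules) [F.IsQuasicoherent] {ι : Type u} (e : (∐ fun _ : ι => Coh.structureModule X) ⟶ F) [Epi e] :
    Subsingleton (((Coh.Rpush f 1).obj F).presheaf.stalk y) := by
  letI : (pullback f (Y.fromSpecStalk y)).Over (Spec (CommRingCat.of (Y.presheaf.stalk y))) :=
    ⟨pullback.snd f (Y.fromSpecStalk y)⟩
  let g := pullback.fst f (Y.fromSpecStalk y)
  obtain ⟨eq⟩ := Groth.Agent.LeadBC.exists_stalkEquiv f F y 1 (pullback f (Y.fromSpecStalk y)) g
    (IsPullback.of_hasPullback _ _)
  haveI : IsProper (pullback.snd f (Y.fromSpecStalk y)) := MorphismProperty.pullback_snd _ _ inferInstance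
  haveI : CompactSpace (pullback f (Y.fromSpecStalk y) : Scheme.{u}) :=
    QuasiCompact.compactSpace_of_compactSpace (pullback.snd f (Y.fromSpecStalk y))
  haveI : QuasiSeparatedSpace (pullback f (Y.fromSpecStalk y) : Scheme.{u}) :=
    quasiSeparatedSpace_of_quasiSeparated (pullback.snd f (Y.fromSpecStalk y))
  haveI : (Scheme.Modules.pullback g).IsLeftAdjoint := (Scheme.Modules.pullbackPushforwardAdjunction g).isLeftAdjoint
  let c : (∐ fun _ : ι => Coh.structureModule (pullback f (Y.fromSpecStalk y))) ≅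
      (Scheme.Modules.pullback g).obj (∐ fun _ : ι => Coh.structureModule X) :=
    (Sigma.mapIso fun _ => (Groth.Agent.H16Derived.KFlat.Stalk.structurePullbackIso g).symm) ≪≫
      (PreservesCoproduct.iso (Scheme.Modules.pullback g) _).symm
  let e' := c.hom ≫ (Scheme.Modules.pullback g).map e
  haveI : Epi ((Scheme.Modules.pullback g).map e) := (Scheme.Modules.pullback g).map_epi e
  haveI : Epi e' := epi_comp _ _
  have hd' : topologicalKrullDim ↥((pullback.snd f (Y.fromSpecStalk y)).fiber
      (IsLocalRing.closedPoint (Y.presheaf.stalk y) : Spec (Y.presheaf.stalk y))) ≤ (1 : ℕ) := by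
    rw [dim_fiber_eq (IsPullback.of_hasPullback f (Y.fromSpecStalk y)), Scheme.fromSpecStalk_closedPoint]
    exact hd
  haveI : ((Scheme.Modules.pullback g).obj F).IsQuasicoherent := H29Fitt.isQCoh_pullback _ F inferInstance
  haveI : Subsingleton (Coh.HH _ ((Scheme.Modules.pullback g).obj F) 1) :=
    subsingleton_of_epi_coprod e' 1
      (fun M hM => subsingleton_HH_local (pullback.snd f (Y.fromSpecStalk y)) 1 hd' M hM 2 (by norm_num))
      (subsingleton_HH_one_stalk f y hd h1)
  exact eq.toEquiv.symm.subsingleton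

/-- `H¹` of a globally generated quasi-coherent module over an affine base. -/
theorem subsingleton_HH_one (f : X ⟶ Y) [IsProper f] [IsAffine Y]
    (hd : ∀ y : Y, topologicalKrullDim ↥(f.fiber y) ≤ (1 : ℕ))
    (h1 : ∀ y : Y, Subsingleton (Coh.HH (f.fiber y) (Coh.structureModule (f.fiber y)) 1))
    (F : X.Modules) [F.IsQuasicoherent] {ι : Type u} (e : (∐ fun _ : ι => Coh.structureModule X) ⟶ F) [Epi e] :
    Subsingleton (Coh.HH X F 1) := by
  have hz : IsZero ((Coh.RpushAb f 1).obj (Coh.toAb F)) :=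
    ((shF Y).map_isZero (Groth.Agent.H17.FPExt.isZero_of_stalk _
      (fun y => subsingleton_stalk_one f y (hd y) (h1 y) F e))).of_iso (nonempty_toAb_rpush f F 1).some.symm
  obtain ⟨eq⟩ := nonempty_sections_rpushAb f F (W := (⊤ : Y.Opens)) (isAffineOpen_top _) 1
  haveI : Subsingleton (((Coh.RpushAb f 1).obj (Coh.toAb F)).obj.obj (op (⊤ : Y.Opens))) :=
    AddCommGrpCat.subsingleton_of_isZero (((sheafToPresheaf _ _).map_isZero hz).obj _)
  have h2 : Subsingleton (HnM F 1 (f ⁻¹ᵁ ⊤)) := eq.toEquiv.subsingleton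
  exact @Equiv.subsingleton _ _ (topEquiv (Coh.toAb F) 1).toEquiv h2

/-- `R¹f_* O_X` vanishes near the point, universally. -/
theorem exists_nhd (f : X ⟶ Y) [IsProper f] (y : Y)
    (hd : topologicalKrullDim ↥(f.fiber y) ≤ (1 : ℕ))
    (h1 : Subsingleton (Coh.HH (f.fiber y) (Coh.structureModule (f.fiber y)) 1)) :
    ∃ V : Y.Opens, y ∈ V ∧ ∀ (Y' : Scheme.{u}) (g : Y' ⟶ (V : Scheme.{u})) (U : Y'.Opens), IsAffineOpen U →
      Subsingleton (Coh.HHon (pullback f (g ≫ V.ι)) (Coh.structureModule (pullback f (g ≫ V.ι)))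
        (pullback.snd f (g ≫ V.ι) ⁻¹ᵁ U) 1) := by
  classical
  obtain ⟨V, hV, hyV, hVs⟩ := AlgebraicGeometry.exists_isAffineOpen_mem_and_subset
    (U := (⟨_, Groth.Agent.S0403.result f (1 : ℕ)⟩ : Y.Opens)) (x := y) hd
  let A := Γ(Y, V)
  let XV := (f ⁻¹ᵁ V).toScheme
  letI := LeadBC.preOver f hV
  let fV : XV ⟶ Spec A := XV ↘ Spec (CommRingCat.of A)
  have hbig : IsPullback (f ⁻¹ᵁ V).ι fV f hV.fromSpec :=
    (isPullback_morphismRestrict f V).flip.of_iso (Iso.refl _) (Iso.refl _) hV.isoSpec (Iso.refl _)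
      (by simp) rfl (by simp) (by simp)
  haveI : IsProper fV := MorphismProperty.of_isPullback hbig ‹IsProper f›
  haveI : IsProper (XV ↘ Spec (CommRingCat.of A)) := ‹IsProper fV›
  have hdV : ∀ s : Spec A, topologicalKrullDim ↥(fV.fiber s) ≤ (1 : ℕ) := fun s => by
    rw [dim_fiber_eq hbig s]
    exact hVs (hV.range_fromSpec ▸ Set.mem_range_self s : hV.fromSpec s ∈ (V : Set Y))
  haveI : Module.Finite A (Coh.HH XV (Coh.structureModule XV) 1) := finite_HH_one (X := XV) (A := A) hdV
  let O := Coh.structureModule X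
  haveI : O.IsQuasicoherent := isQuasicoherent_unit
  let R := (Coh.Rpush f 1).obj O
  obtain ⟨e₂, he₂⟩ := LeadBC.exists_rpushEquiv f hV O 1
  haveI hR : Subsingleton (R.presheaf.stalk y) := by
    haveI : Epi (Sigma.desc fun _ : PUnit.{u + 1} => 𝟙 O) :=
      epi_of_epi_fac (Sigma.ι_desc (fun _ : PUnit.{u + 1} => 𝟙 O) PUnit.unit)
    exact subsingleton_stalk_one f y hd h1 O (Sigma.desc fun _ : PUnit.{u + 1} => 𝟙 O)
  have hRq : Coh.IsQCoh R := isQuasicoherent_rpush f O 1
  letI algO : Algebra A (Y.presheaf.stalk y) := TopCat.Presheaf.algebra_section_stalk Y.presheaf (⟨y, hyV⟩ : V)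
  letI : Module A (R.presheaf.stalk y) := Module.compHom _ (algebraMap A (Y.presheaf.stalk y))
  haveI := H29Fitt.isLocalizedModule_germLin R hRq hV ⟨y, hyV⟩
  let p := (hV.primeIdealOf ⟨y, hyV⟩).asIdeal
  let N := Coh.HH XV (O.restrict (f ⁻¹ᵁ V).ι) 1
  let ρ : O.restrict (f ⁻¹ᵁ V).ι ≅ Coh.structureModule XV := Scheme.Modules.restrictUnitIso _
  let ε : N ≃ₗ[A] Coh.HH XV (Coh.structureModule XV) 1 := ((LeadBC.HMod A 1).mapIso ρ).toLinearEquiv
  haveI : Module.Finite A N := Module.Finite.equiv ε.symm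
  obtain ⟨s, hs⟩ := Module.Finite.fg_top (R := A) (M := N)
  have hkill : ∀ x : N, ∃ c : p.primeCompl, (c : A) • x = 0 := by
    intro x
    obtain ⟨c, hc⟩ := (IsLocalizedModule.eq_zero_iff p.primeCompl (H29Fitt.germLin R (⟨y, hyV⟩ : V))
      (m := e₂ x)).1 (Subsingleton.elim _ _)
    exact ⟨c, e₂.injective (((he₂ (c : A) x).trans hc).trans (map_zero e₂).symm)⟩
  choose c hc using hkill
  let a : A := ∏ x ∈ s, (c x : A)
  have ha : a ∉ p := fun h => by
    obtain ⟨x, hx, hxp⟩ := (Ideal.IsPrime.prod_mem_iff).1 h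
    exact (c x).2 hxp
  have haN : ∀ x : N, a • x = 0 := by
    intro x
    have hx : x ∈ Submodule.span A (s : Set N) := by rw [hs]; trivial
    refine Submodule.span_induction (fun z hz => ?_) (smul_zero _) (fun u v _ _ hu hv => by rw [smul_add, hu, hv, add_zero])
      (fun r u _ hu => by rw [smul_comm, hu, smul_zero]) hx
    obtain ⟨b, hb⟩ := Finset.dvd_prod_of_mem (fun x => (c x : A)) hz
    show a • z = 0
    rw [show a = (c z : A) * b from hb, mul_comm, mul_smul, hc, smul_zero]
  refine ⟨Y.basicOpen a, ?_, fun Y' g U hU => ?_⟩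
  · show y ∈ (Y.basicOpen a : Set Y)
    rw [← hV.fromSpec_image_basicOpen]
    exact ⟨hV.primeIdealOf ⟨y, hyV⟩, ha, hV.fromSpec_primeIdealOf ⟨y, hyV⟩⟩
  · let h := g ≫ (Y.basicOpen a).ι
    have hle : U ≤ h ⁻¹ᵁ V := fun z _ => Y.basicOpen_le a (g z).2
    have hunit : IsUnit (h.appLE V U hle a) := by
      refine Y'.toRingedSpace.isUnit_of_isUnit_germ U _ fun z hz => (Y'.mem_basicOpen _ z hz).1 ?_
      rw [Scheme.Hom.appLE, CommRingCat.comp_apply, Scheme.basicOpen_res, ← Scheme.preimage_basicOpen]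
      exact ⟨hz, (g z).2⟩
    let P := pullback f h
    let W := pullback.snd f h ⁻¹ᵁ U
    let A' := Γ(Y', U)
    let ψ : A ⟶ A' := h.appLE V U hle
    letI := LeadBC.preOver (pullback.snd f h) hU
    let fW : W.toScheme ⟶ Spec A' := W.toScheme ↘ Spec (CommRingCat.of A')
    have hW : IsPullback W.ι fW (pullback.snd f h) hU.fromSpec :=
      (isPullback_morphismRestrict (pullback.snd f h) U).flip.of_iso (Iso.refl _) (Iso.refl _) hU.isoSpec (Iso.refl _)
        ((Category.comp_id _).trans (Category.id_comp _).symm) rfl (by simp) (by simp)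
    have hW' : IsPullback (W.ι ≫ pullback.fst f h) fW f (Spec.map ψ ≫ hV.fromSpec) := by
      rw [IsAffineOpen.SpecMap_appLE_fromSpec h hV hU hle]
      exact hW.paste_horiz (IsPullback.of_hasPullback f h)
    let q : W.toScheme ⟶ XV := hbig.lift (W.ι ≫ pullback.fst f h) (fW ≫ Spec.map ψ) (by rw [Category.assoc]; exact hW'.w)
    have hq : IsPullback q fW fV (Spec.map ψ) :=
      IsPullback.of_right (by rw [hbig.lift_fst]; exact hW') (hbig.lift_snd _ _ _) hbig
    obtain ⟨u, hu, hspan⟩ := exists_pullMap (A₀ := A) (A := A') fW fV rfl rfl ψ q hq.w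
      (by rw [show pullback.lift q fW hq.w = hq.isoPullback.hom from
            pullback.hom_ext ((pullback.lift_fst _ _ _).trans hq.isoPullback_hom_fst.symm)
              ((pullback.lift_snd _ _ _).trans hq.isoPullback_hom_snd.symm)]
          infer_instance)
      (fun M hM => haveI := hM; subsingleton_HH fV 1 hdV M (1 + 1) (by norm_num))
    refine subsingleton_HH_of_iso (Scheme.Modules.restrictUnitIso W.ι).symm 1
      (subsingleton_of_forall_eq 0 fun x => ?_)
    have hu0 : ∀ z, u z = 0 := fun z => by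
      have hz : a • z = 0 := ε.symm.injective (by rw [map_smul, haN, map_zero])
      have h0 := hu a z
      rw [hz, map_zero] at h0
      exact (hunit.smul_eq_zero).1 h0.symm
    have hx := hspan x
    rw [show Set.range u = {0} from Set.ext fun w => ⟨fun ⟨z, hz⟩ => by simp [← hz, hu0],
      fun hw => ⟨0, by simp [Set.mem_singleton_iff.1 hw]⟩⟩, Submodule.span_singleton_eq_bot.2 rfl,
      Submodule.mem_bot] at hx
    exact hx

end Groth.Agent.H7Flat.CohDim
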