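import Groth.Agent.H7Flat.CohDim.H1Apps

/-!
# Finiteness of the top cohomology of a finite type quasi-coherent module

For `X` proper over an arbitrary ring with fibres of dimension `≤ d`, `H^d(X, M)` is a finite module
for every quasi-coherent `M` of finite type.
-/

set_option autoImplicit false
set_option linter.style.haveILetI false
set_option backward.isDefEq.respectTransparency false

noncomputable section

universe u

open CategoryTheory CategoryTheory.Limits AlgebraicGeometry Opposite TopologicalSpace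

namespace Groth.Agent.H7Flat.CohDim

open Groth.Agent.H10Coh

attribute [local instance 10000] hasSheafifyAb hasWeakSheafifyAb hasExtAb enoughInjAb
attribute [local instance] enoughInjMod

variable {X : Scheme.{u}}

/-- A quasi-coherent module without sections over the members of an affine cover is zero. -/
theorem isZero_of_cover {C : X.Modules} (hC : Coh.IsQCoh C) {κ : Type*} (U : κ → X.Opens)
    (hU : ∀ j, IsAffineOpen (U j)) (hcov : ⊤ ≤ ⨆ j, U j) (h : ∀ j, Subsingleton Γ(C, U j)) : IsZero C := by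
  refine Groth.Agent.H17.FPExt.isZero_of_stalk C fun x => ?_
  obtain ⟨j, hj⟩ := Opens.mem_iSup.1 (hcov (show x ∈ (⊤ : X.Opens) from trivial))
  letI algO : Algebra Γ(X, U j) (X.presheaf.stalk x) := TopCat.Presheaf.algebra_section_stalk X.presheaf (⟨x, hj⟩ : U j)
  letI : Module Γ(X, U j) (C.presheaf.stalk x) := Module.compHom _ (algebraMap Γ(X, U j) (X.presheaf.stalk x))
  haveI := H29Fitt.isLocalizedModule_germLin C hC (hU j) ⟨x, hj⟩
  refine subsingleton_of_forall_eq 0 fun z => ?_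
  obtain ⟨⟨m, c⟩, hm⟩ := IsLocalizedModule.surj ((hU j).primeIdealOf ⟨x, hj⟩).asIdeal.primeCompl
    (H29Fitt.germLin C (⟨x, hj⟩ : U j)) z
  haveI := h j
  rw [Subsingleton.elim m 0, map_zero] at hm
  exact ((IsLocalizedModule.map_units (H29Fitt.germLin C (⟨x, hj⟩ : U j)) c)).smul_eq_zero.1 hm

theorem finite_HH_top {A : CommRingCat.{u}} [X.Over (Spec (CommRingCat.of A))]
    [IsProper (X ↘ Spec (CommRingCat.of A))] (d : ℕ)
    (hd : ∀ s : Spec A, topologicalKrullDim ↥((X ↘ Spec (CommRingCat.of A)).fiber s) ≤ d)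
    (M : X.Modules) (hM : Coh.IsCoh M) : Module.Finite A (Coh.HH X M d) := by
  classical
  let f : X ⟶ Spec A := X ↘ Spec (CommRingCat.of A)
  haveI : IsProper f := ‹_›
  obtain ⟨A₀, hA₀, ψ, X₀, f₀, q, w, hf₀, hd₀, hj⟩ := exists_model f d hd
  haveI := hA₀
  haveI := hf₀
  haveI := hj
  letI : X₀.Over (Spec (CommRingCat.of A₀)) := ⟨f₀⟩
  haveI : IsProper (X₀ ↘ Spec (CommRingCat.of A₀)) := hf₀
  haveI : IsAffineHom (pullback.fst f₀ (Spec.map ψ)) := MorphismProperty.pullback_fst _ _ inferInstance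
  haveI : IsAffineHom q := by
    rw [← pullback.lift_fst q f w]
    infer_instance
  haveI : IsNoetherianRing (CommRingCat.of A₀) := hA₀
  haveI : IsLocallyNoetherian X₀ := LocallyOfFiniteType.isLocallyNoetherian f₀
  haveI : CompactSpace X₀ := QuasiCompact.compactSpace_of_compactSpace f₀
  haveI : QuasiSeparatedSpace X₀ := quasiSeparatedSpace_of_quasiSeparated f₀
  haveI : M.IsQuasicoherent := hM.1
  let G := (Coh.push q).obj M
  haveI hG : G.IsQuasicoherent := isQuasicoherent_pushforward_of_isAffineHom q _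
  obtain ⟨k, U, hU, -, hcov⟩ := exists_finite_affine_cover (W := (⊤ : X₀.Opens))
    (by simpa using isCompact_univ)
  -- generators over the preimages
  have hgen : ∀ j, ∃ s : Finset Γ(M, q ⁻¹ᵁ U j), Submodule.span Γ(X, q ⁻¹ᵁ U j) (s : Set Γ(M, q ⁻¹ᵁ U j)) = ⊤ :=
    fun j => ((isCoh_iff_finite_sections M).1 hM).2 _ ((hU j).preimage q) |>.fg_top
  choose s hs using hgen
  let Idx : Type u := ULift.{u} (Σ j, {x // x ∈ s j})
  haveI : Finite Idx := inferInstanceAs (Finite (ULift.{u} (Σ j, {x // x ∈ s j})))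
  have hP : ∀ σ : Idx, ∃ (P : X₀.Modules) (φ : P ⟶ G), CohB1.IsFP P ∧
      (σ.down.2.1 : Γ(G, U σ.down.1)) ∈ Set.range (φ.app (U σ.down.1)) :=
    fun σ => Groth.Agent.H17.FPExt.exists_fp_through G hG ⟨_, hU σ.down.1⟩ σ.down.2.1
  choose P φ hPfp hφ using hP
  have hPcoh : ∀ σ, Coh.IsCoh (P σ) := fun σ => Groth.Agent.H17.ConsProp.isCoh_of_isFP (hPfp σ)
  haveI hPq : ∀ σ, (P σ).IsQuasicoherent := fun σ => (hPcoh σ).1
  haveI : ∀ p : A × Idx, (P p.2).IsQuasicoherent := fun p => hPq p.2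
  haveI hcq : (∐ fun p : A × Idx => P p.2).IsQuasicoherent := isQuasicoherent_coproduct _ fun p => hPq p.2
  let Φ : (∐ fun p : A × Idx => P p.2) ⟶ G :=
    Sigma.desc fun p => φ p.2 ≫ (Coh.push q).map (Formal.smulMod A M p.1)
  haveI : Epi Φ := by
    refine Abelian.epi_of_cokernel_π_eq_zero _ (IsZero.eq_of_tgt (isZero_of_cover (isQuasicoherent_cokernel Φ) U hU hcov fun j => ?_) _ _)
    refine subsingleton_of_forall_eq 0 fun z => ?_
    haveI := isQuasicoherent_cokernel Φ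
    obtain ⟨t, rfl⟩ := surjective_app_of_epi (cokernel.π Φ) (hU j) z
    suffices ht : t ∈ Set.range (Φ.app (U j)) by
      obtain ⟨y, rfl⟩ := ht
      show (Φ ≫ cokernel.π Φ).app (U j) y = 0
      rw [cokernel.condition]
      rfl
    let t' : Γ(M, q ⁻¹ᵁ U j) := t
    have ht : t' ∈ Submodule.span Γ(X, q ⁻¹ᵁ U j) (s j : Set Γ(M, q ⁻¹ᵁ U j)) := by rw [hs]; trivial
    let ev : Γ(∐ fun p : A × Idx => P p.2, U j) →+ Γ(M, q ⁻¹ᵁ U j) :=
      AddMonoidHom.mk' (fun v => (Φ.app (U j) v : Γ(G, U j))) fun v w => map_add _ v w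
    letI := (q.app (U j)).hom.toAlgebra
    have key : ∀ y ∈ Submodule.span Γ(X, q ⁻¹ᵁ U j) (s j : Set Γ(M, q ⁻¹ᵁ U j)),
        ∀ r : Γ(X, q ⁻¹ᵁ U j), r • y ∈ ev.range := by
      intro y hy
      refine Submodule.span_induction (fun x hx => ?_) (fun r => by rw [smul_zero]; exact zero_mem _)
        (fun a b _ _ ha hb r => by rw [smul_add]; exact add_mem (ha r) (hb r))
        (fun c a _ ha r => by rw [← mul_smul]; exact ha _) hy
      intro r
      refine Submodule.span_induction (p := fun r _ => r • x ∈ ev.range) (fun y hy => ?_)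
        (by rw [zero_smul]; exact zero_mem _) (fun a b _ _ ha hb => by rw [add_smul]; exact add_mem ha hb)
        (fun c a _ ha => ?_) (span_preimage f f₀ ψ q w hj (U j) (hU j) r)
      · obtain ⟨a, rfl⟩ := hy
        let σ : Idx := ⟨⟨j, ⟨x, hx⟩⟩⟩
        obtain ⟨v, hv⟩ := hφ σ
        refine ⟨(Sigma.ι (fun p : A × Idx => P p.2) (a, σ)).app (U j) v, ?_⟩
        show ((Sigma.ι (fun p : A × Idx => P p.2) (a, σ) ≫ Φ)).app (U j) v = _
        rw [Sigma.ι_desc]
        let scl : Γ(X, q ⁻¹ᵁ U j) := X.presheaf.map (homOfLE (le_top : q ⁻¹ᵁ U j ≤ ⊤)).op (Coh.toGlobal f a)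
        exact congrArg (fun m : Γ(M, q ⁻¹ᵁ U j) => scl • m) hv
      · obtain ⟨va, hva⟩ := ha
        refine ⟨c • va, ?_⟩
        show Φ.app (U j) (c • va) = _
        rw [Scheme.Modules.Hom.app_smul, Algebra.smul_def c a, mul_smul, ← hva]
        rfl
    have h1 := key t' ht 1
    rw [one_smul] at h1
    obtain ⟨v, hv⟩ := h1
    exact ⟨v, hv⟩
  have h2 : Subsingleton (Coh.HH X₀ (kernel Φ) (d + 1)) := by
    haveI : (kernel Φ).IsQuasicoherent := isQuasicoherent_kernel Φ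
    exact subsingleton_HH f₀ d hd₀ _ (d + 1) (Nat.lt_succ_self d)
  haveI : ∀ σ, Module.Finite A₀ (Coh.HH X₀ (P σ) d) := fun σ => finite_HH_proper A₀ X₀ _ (hPcoh σ) d
  let L := lerayHH q M d
  let u : ∀ σ, Coh.HH X₀ (P σ) d →+ Coh.HH X M d := fun σ => L.toAddMonoidHom.comp (hm (φ σ) d)
  have hG₀ : ∀ a₀ : A₀, Formal.smulMod A₀ G a₀ = (Coh.push q).map (Formal.smulMod A M (ψ a₀)) := fun a₀ => by
    refine LeadFF.hom_ext_sections _ _ fun V m => ?_
    let m' : Γ(M, q ⁻¹ᵁ V) := m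
    change q.app V (X₀.presheaf.map (homOfLE (le_top : V ≤ ⊤)).op (Coh.toGlobal f₀ a₀)) • m' =
      X.presheaf.map (homOfLE (le_top : q ⁻¹ᵁ V ≤ ⊤)).op (Coh.toGlobal f (ψ a₀)) • m'
    rw [← appTop_toGlobal f f₀ ψ q w]
    congr 1
    exact congr($(q.naturality (homOfLE (le_top : V ≤ ⊤)).op) (Coh.toGlobal f₀ a₀))
  have hu : ∀ σ (a₀ : A₀) (y : Coh.HH X₀ (P σ) d), u σ (a₀ • y) = ψ a₀ • u σ y := by
    intro σ a₀ y
    show L (hm (φ σ) d (LeadFF.Hm (Formal.smulMod A₀ (P σ) a₀) d y)) =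
      LeadFF.Hm (Formal.smulMod A M (ψ a₀)) d (L (hm (φ σ) d y))
    have h := LeadFF.smulMod_natural (φ σ) a₀
    rw [hG₀] at h
    rw [show hm (φ σ) d (LeadFF.Hm (Formal.smulMod A₀ (P σ) a₀) d y) =
      hm ((Coh.push q).map (Formal.smulMod A M (ψ a₀))) d (hm (φ σ) d y) from
        (LeadFF.Hm_comp _ _ d y).symm.trans ((congrArg (fun g => LeadFF.Hm g d y) h.symm).trans (LeadFF.Hm_comp _ _ d y))]
    exact lerayHH_smul q M d _ _
  have hT : ∀ σ, ∃ t : Finset (Coh.HH X₀ (P σ) d), Submodule.span A₀ (t : Set (Coh.HH X₀ (P σ) d)) = ⊤ :=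
    fun σ => Module.Finite.fg_top
  choose t ht using hT
  let S : Set (Coh.HH X M d) := ⋃ σ, u σ '' (t σ : Set (Coh.HH X₀ (P σ) d))
  have hSfin : S.Finite := Set.finite_iUnion fun σ => (t σ).finite_toSet.image (u σ)
  refine ⟨Submodule.fg_def.mpr ⟨S, hSfin, eq_top_iff.mpr fun x _ => ?_⟩⟩
  have hmem : ∀ σ (y : Coh.HH X₀ (P σ) d), u σ y ∈ Submodule.span A S := by
    intro σ y
    have hy : y ∈ Submodule.span A₀ (t σ : Set (Coh.HH X₀ (P σ) d)) := by rw [ht]; trivial
    refine Submodule.span_induction (fun z hz => Submodule.subset_span (Set.mem_iUnion.2 ⟨σ, z, hz, rfl⟩))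
      (by rw [map_zero]; exact zero_mem _) (fun a b _ _ ha hb => by rw [map_add]; exact add_mem ha hb)
      (fun r a _ ha => by rw [hu]; exact Submodule.smul_mem _ _ ha) hy
  obtain ⟨T, y, hy⟩ := exists_sum_of_epi Φ d h2 (L.symm x)
  have hx : x = ∑ p ∈ T, (p.1 : A) • u p.2 (y p) := by
    rw [← L.apply_symm_apply x, hy, map_sum]
    refine Finset.sum_congr rfl fun p _ => ?_
    rw [Sigma.ι_desc, show hm (φ p.2 ≫ (Coh.push q).map (Formal.smulMod A M p.1)) d (y p) =
      hm ((Coh.push q).map (Formal.smulMod A M p.1)) d (hm (φ p.2) d (y p)) from LeadFF.Hm_comp _ _ d _]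
    exact lerayHH_smul q M d _ _
  rw [hx]
  exact sum_mem fun p _ => Submodule.smul_mem _ _ (hmem _ _)

end Groth.Agent.H7Flat.CohDim
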