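import Groth.Agent.H7Flat.CohDim.Fibre
import Groth.Agent.S9195
import Groth.Agent.H7Lim.FibreDimDescend

/-!
# Noetherian models of proper morphisms with fibres of bounded dimension

A proper `X → Spec A` with fibres of dimension `≤ d` is a closed subscheme of the base change of a
proper `X₀ → Spec A₀` with `A₀` Noetherian and fibres of dimension `≤ d`.
-/

set_option autoImplicit false
set_option linter.style.haveILetI false
set_option backward.isDefEq.respectTransparency.types false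

noncomputable section

universe u

open CategoryTheory CategoryTheory.Limits AlgebraicGeometry Opposite TopologicalSpace

namespace Groth.Agent.H7Flat.CohDim

attribute [local instance] CategoryTheory.isConnected_of_hasTerminal

/-- Finitely presented case: the morphism is a base change of the model. -/
theorem exists_model_fp {A : CommRingCat.{u}} {X : Scheme.{u}} (f : X ⟶ Spec A) [IsProper f]
    [LocallyOfFinitePresentation f] (d : ℕ) (hd : ∀ s : Spec A, topologicalKrullDim ↥(f.fiber s) ≤ d) :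
    ∃ (A₀ : CommRingCat.{u}) (_ : IsNoetherianRing A₀) (ψ : A₀ ⟶ A) (X₀ : Scheme.{u}) (f₀ : X₀ ⟶ Spec A₀)
      (q : X ⟶ X₀), IsProper f₀ ∧ (∀ s : Spec A₀, topologicalKrullDim ↥(f₀.fiber s) ≤ d) ∧
        IsPullback q f f₀ (Spec.map ψ) := by
  let F := (H7Lim.FPDescent.subringFunctor A).op ⋙ Scheme.Spec
  let c : Cone F := Scheme.Spec.mapCone (H7Lim.FPDescent.subringCocone A).op
  let hc : IsLimit c := isLimitOfPreserves Scheme.Spec (H7Lim.FPDescent.subringIsColimit A).op
  haveI : ∀ (i j : (Finset A)ᵒᵖ) (φ : i ⟶ j), IsAffineHom (F.map φ) := fun i j φ =>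
    inferInstanceAs (IsAffineHom (Spec.map _))
  haveI : ∀ i, CompactSpace (F.obj i) := fun i => inferInstanceAs (CompactSpace ↥(Spec _))
  haveI : ∀ i, QuasiSeparatedSpace (F.obj i) := fun i => inferInstanceAs (QuasiSeparatedSpace ↥(Spec _))
  haveI : Nonempty (Finset A) := ⟨∅⟩
  let f' : X ⟶ c.pt := f
  haveI : IsProper f' := ‹IsProper f›
  haveI : LocallyOfFinitePresentation f' := ‹LocallyOfFinitePresentation f›
  obtain ⟨i₀, ⟨N⟩⟩ := H7Lim.FPDescent.exists_model hc (X := X) f'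
  haveI := N.compactSpace
  haveI := N.quasiSeparatedSpace
  haveI := N.lfp
  obtain ⟨i, φ, Xi, Yi, fi, gi, pY, pX, hpY, hpX, hfi⟩ :=
    Groth.Agent.S2074.result _ c hc i₀ N.p (𝟙 _) f' (𝟙 _) (c.π.app i₀) N.g
      (IsPullback.of_vert_isIso ⟨by simp⟩) N.hpb
  haveI := hfi
  haveI : IsIso gi := MorphismProperty.of_isPullback (P := MorphismProperty.isomorphisms _) hpY
      (show IsIso (𝟙 _) from inferInstance)
  let g₁ : Xi ⟶ F.obj i := fi ≫ gi
  haveI : IsProper g₁ := inferInstanceAs (IsProper (_ ≫ _))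
  have hpY' : pY = gi ≫ F.map φ := by simpa using hpY.w
  let q₁ : X ⟶ Xi := hpX.lift N.g (f' ≫ c.π.app i ≫ inv gi) (by
    simp only [Category.assoc, hpY', IsIso.inv_hom_id_assoc, c.w]
    exact N.hpb.w)
  have hX : IsPullback q₁ f' g₁ (c.π.app i) := by
    have h1 : IsPullback pX g₁ N.p (F.map φ) :=
      IsPullback.of_iso hpX (Iso.refl _) (Iso.refl _) (asIso gi) (Iso.refl _) (by simp) (by simp [g₁])
        (by simp) (by simp [hpY'])
    refine IsPullback.of_right ?_ ?_ h1
    · rw [hpX.lift_fst, c.w]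
      exact N.hpb
    · simp only [q₁, g₁, ← Category.assoc, IsPullback.lift_snd]
      simp
  haveI : CompactSpace Xi := QuasiCompact.compactSpace_of_compactSpace g₁
  haveI : QuasiSeparatedSpace Xi := quasiSeparatedSpace_of_quasiSeparated g₁
  obtain ⟨j, φ', Xj, Yj, fj, gj, pY', pX', hpY₂, hpX₂, hdim⟩ :=
    Groth.Agent.S9195.result _ c hc i g₁ (𝟙 _) d f' (𝟙 _) (c.π.app i) q₁
      (IsPullback.of_vert_isIso ⟨by simp⟩) hX
      (fun x => (H7Lim.fibreDimAt_le_dim_fiber f' x).trans (hd _))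
  haveI : IsIso gj := MorphismProperty.of_isPullback (P := MorphismProperty.isomorphisms _) hpY₂
      (show IsIso (𝟙 _) from inferInstance)
  haveI : IsProper fj := MorphismProperty.of_isPullback hpX₂ ‹IsProper g₁›
  have hpY₂' : pY' = gj ≫ F.map φ' := by simpa using hpY₂.w
  let f₀ : Xj ⟶ Spec ((H7Lim.FPDescent.subringFunctor A).obj j.unop) := fj ≫ gj
  haveI : IsProper f₀ := inferInstanceAs (IsProper (_ ≫ _))
  let q : X ⟶ Xj := hpX₂.lift q₁ (f' ≫ c.π.app j ≫ inv gj) (by
    simp only [Category.assoc, hpY₂', IsIso.inv_hom_id_assoc, c.w]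
    exact hX.w)
  refine ⟨(H7Lim.FPDescent.subringFunctor A).obj j.unop, ?_, (H7Lim.FPDescent.subringCocone A).ι.app j.unop,
    Xj, f₀, q, inferInstance, fun s => ?_, ?_⟩
  · haveI : Algebra.FiniteType ℤ (Algebra.adjoin ℤ ((j.unop : Finset A) : Set A)) :=
      (Algebra.adjoin ℤ ((j.unop : Finset A) : Set A)).fg_iff_finiteType.1 ⟨j.unop, rfl⟩
    exact Algebra.FiniteType.isNoetherianRing ℤ (Algebra.adjoin ℤ ((j.unop : Finset A) : Set A))
  · refine H7Lim.dim_fiber_le_of_forall f₀ s _ fun x => ?_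
    refine le_trans (le_of_eq ?_) (hdim x)
    have hp : IsPullback (𝟙 Xj) f₀ fj (inv gj) := IsPullback.of_horiz_isIso ⟨by simp [f₀]⟩
    exact (Groth.Agent.H8Props.FieldDim.fibreDimAt_baseChange fj hp x).trans (by simp)
  · have h1 : IsPullback pX' f₀ g₁ (F.map φ') :=
      IsPullback.of_iso hpX₂ (Iso.refl _) (Iso.refl _) (asIso gj) (Iso.refl _) (by simp) (by simp [f₀])
        (by simp) (by simp [hpY₂'])
    refine IsPullback.of_right (h₁₁ := q) (v₁₁ := f') (h₂₁ := c.π.app j) ?_ ?_ h1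
    · rw [hpX₂.lift_fst, c.w]
      exact hX
    · simp only [q, f₀, ← Category.assoc, IsPullback.lift_snd]
      simp

/-- A proper morphism to an affine scheme is a closed subscheme of a base change of a Noetherian model. -/
theorem exists_model {A : CommRingCat.{u}} {X : Scheme.{u}} (f : X ⟶ Spec A) [IsProper f]
    (d : ℕ) (hd : ∀ s : Spec A, topologicalKrullDim ↥(f.fiber s) ≤ d) :
    ∃ (A₀ : CommRingCat.{u}) (_ : IsNoetherianRing A₀) (ψ : A₀ ⟶ A) (X₀ : Scheme.{u}) (f₀ : X₀ ⟶ Spec A₀)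
      (q : X ⟶ X₀) (w : q ≫ f₀ = f ≫ Spec.map ψ), IsProper f₀ ∧
        (∀ s : Spec A₀, topologicalKrullDim ↥(f₀.fiber s) ≤ d) ∧ IsClosedImmersion (pullback.lift q f w) := by
  obtain ⟨I, _, _, D, c, hc, e, hD, hc'⟩ := Groth.Agent.S2079.result f
  haveI : Nonempty I := IsCofiltered.nonempty
  let i : I := Classical.arbitrary I
  obtain ⟨h1, h2, h3⟩ := hc' i
  haveI := h1
  haveI := h2
  haveI := h3
  let ι : X ⟶ (D.obj i).left := e.inv.left ≫ (c.π.app i).left
  haveI : IsClosedImmersion ι := inferInstanceAs (IsClosedImmersion (_ ≫ _))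
  have hι : ι ≫ (D.obj i).hom = f := by
    show (e.inv.left ≫ (c.π.app i).left) ≫ (D.obj i).hom = f
    rw [Category.assoc, Over.w]
    exact Over.w e.inv
  obtain ⟨Z', ι', k, hι', hι'', hk, hdim⟩ := Groth.Agent.S9216.result (D.obj i).hom d ι
    (fun s => by rw [hι]; exact hd s)
  haveI := hι'
  haveI := hι''
  haveI : IsClosedImmersion (k ≫ ι') := by rw [hk]; infer_instance
  haveI : IsClosedImmersion k := .of_comp k ι'
  obtain ⟨A₀, hA₀, ψ, X₀, f₀, q, hf₀, hd₀, hpb⟩ := exists_model_fp (ι' ≫ (D.obj i).hom) d hdim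
  have hkf : k ≫ ι' ≫ (D.obj i).hom = f := by rw [← Category.assoc, hk, hι]
  refine ⟨A₀, hA₀, ψ, X₀, f₀, k ≫ q, by rw [Category.assoc, hpb.w, ← hkf]; simp, hf₀, hd₀, ?_⟩
  have : pullback.lift (k ≫ q) f (by rw [Category.assoc, hpb.w, ← hkf]; simp) = k ≫ hpb.isoPullback.hom :=
    pullback.hom_ext
      ((pullback.lift_fst _ _ _).trans (by rw [Category.assoc, hpb.isoPullback_hom_fst]))
      ((pullback.lift_snd _ _ _).trans (by rw [Category.assoc, hpb.isoPullback_hom_snd]; exact hkf.symm))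
  rw [this]
  infer_instance

end Groth.Agent.H7Flat.CohDim
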