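import Groth.Agent.H7Flat.CohDim.H1Apps

/-!
# Surjectivity of `O → f_*O` is stable under base change (fibres of dimension `≤ 1` without `H¹`)
-/

set_option autoImplicit false
set_option linter.style.haveILetI false
set_option backward.isDefEq.respectTransparency false

noncomputable section

universe u

open CategoryTheory CategoryTheory.Limits AlgebraicGeometry Opposite TopologicalSpace Abelian

namespace Groth.Agent.H7Flat.CohDim

open Groth.Agent.H10Coh

attribute [local instance 10000] hasSheafifyAb hasWeakSheafifyAb hasExtAb enoughInjAb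
attribute [local instance] enoughInjMod

variable {X Y : Scheme.{u}}

/-- The ideal of the base change to a quotient of the base is globally generated. -/
theorem exists_epi_kernel {R k : CommRingCat.{u}} (f : X ⟶ Spec R) (π : R ⟶ k) (hπ : Function.Surjective π.hom)
    {Xk : Scheme.{u}} (i : Xk ⟶ X) (fk : Xk ⟶ Spec k) (sq : IsPullback i fk f (Spec.map π)) :
    Epi (ClSub.unitToPush i) ∧
    ∃ Ψ : (∐ fun _ : RingHom.ker π.hom => Coh.structureModule X) ⟶ kernel (ClSub.unitToPush i), Epi Ψ := by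
  classical
  letI : X.Over (Spec (CommRingCat.of R)) := ⟨f⟩
  haveI : IsClosedImmersion (Spec.map π) := IsClosedImmersion.spec_of_surjective π hπ
  haveI : IsClosedImmersion i := MorphismProperty.of_isPullback sq.flip ‹IsClosedImmersion (Spec.map π)›
  let O := Coh.structureModule X
  let Ok := Coh.structureModule Xk
  let G := (Coh.push i).obj Ok
  let v : O ⟶ G := ClSub.unitToPush i
  haveI : Epi v := by
    apply (shF X).epi_of_epi_map
    refine epi_of_locally_surjective _ fun U t x hx => ?_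
    obtain ⟨V, hV, hxV, hVU⟩ := Opens.isBasis_iff_nbhd.1 X.isBasis_affineOpens hx
    exact ⟨V, hVU, hxV, Scheme.Hom.app_surjective i V hV (rs G hVU t)⟩
  let m := RingHom.ker π.hom
  have hzero : ∀ t : m, Formal.smulMod R O (t : R) ≫ v = 0 := by
    intro t
    have ht : π.hom (t : R) = 0 := by
      exact RingHom.mem_ker.1 t.2
    show Formal.smulModΓ O (Coh.toGlobal f (t : R)) ≫ v = 0
    rw [smul_unitToPush, appTop_toGlobal fk f π i sq.w, show π (t : R) = 0 from ht, map_zero]
    refine LeadFF.hom_ext_sections _ _ fun U s => ?_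
    change Xk.presheaf.map (homOfLE (le_top : i ⁻¹ᵁ U ≤ ⊤)).op 0 * i.app U s = 0
    rw [map_zero, zero_mul]
  let Ψ : (∐ fun _ : m => O) ⟶ kernel v :=
    Sigma.desc fun t => kernel.lift v (Formal.smulMod R O (t : R)) (hzero t)
  haveI : Epi Ψ := by
    refine epi_of_span Ψ fun U hU z => ?_
    have hz : (ClSub.unitToPush i).app U ((kernel.ι v).app U z) = 0 := by
      show ((kernel.ι v ≫ v).app U) z = 0
      rw [kernel.condition]
      rfl
    let x : Γ(X, U) := (kernel.ι v).app U z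
    have hx0 : i.app U x = 0 := hz
    have hpo := (isIso_pushoutSection_iff sq (UX := U) (UT := (⊤ : (Spec k).Opens)) (US := ⊤) le_top le_top
      (UY := i ⁻¹ᵁ U ⊓ fk ⁻¹ᵁ ⊤) rfl).mp
      (isIso_pushoutSection_of_isAffineOpen sq le_top le_top rfl (isAffineOpen_top _) (isAffineOpen_top _) hU)
    have hsurj : Function.Surjective ((Spec.map π).appLE ⊤ ⊤ le_top).hom := by
      intro y
      obtain ⟨b, hb⟩ := hπ ((Scheme.ΓSpecIso k).hom y)
      refine ⟨(Scheme.ΓSpecIso R).inv b, ?_⟩
      rw [show (Spec.map π).appLE ⊤ ⊤ le_top = (Spec.map π).appTop from Scheme.Hom.appLE_eq_app _]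
      have := congr($(Scheme.ΓSpecIso_inv_naturality π) b)
      refine this.symm.trans ?_
      show (Scheme.ΓSpecIso k).inv (π.hom b) = y
      rw [hb]
      exact congr($((Scheme.ΓSpecIso k).hom_inv_id) y)
    have hxm := mem_map_ker_of_isPushout hpo hsurj x (by
      show i.appLE U _ _ x = 0
      rw [Scheme.Hom.appLE, CommRingCat.comp_apply, hx0, map_zero])
    have hinj : Function.Injective ((kernel.ι v).app U) := by
      haveI : Mono (Scheme.Modules.toPresheaf X |>.map (kernel.ι v)) := inferInstance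
      exact (AddCommGrpCat.mono_iff_injective _).mp
        (inferInstanceAs (Mono (((Scheme.Modules.toPresheaf X).map (kernel.ι v)).app (op U))))
    suffices h : ∃ z', z' ∈ Submodule.span Γ(X, U) (Set.range fun t : m =>
        (Sigma.ι (fun _ : m => O) t ≫ Ψ).app U (1 : Γ(X, U))) ∧ (kernel.ι v).app U z' = (kernel.ι v).app U z by
      obtain ⟨z', hz', he⟩ := h
      exact hinj he ▸ hz'
    refine Submodule.span_induction (p := fun y _ => ∃ z', z' ∈ Submodule.span Γ(X, U) (Set.range fun t : m =>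
        (Sigma.ι (fun _ : m => O) t ≫ Ψ).app U (1 : Γ(X, U))) ∧ (kernel.ι v).app U z' = y)
      (fun y hy => ?_) ⟨0, zero_mem _, map_zero _⟩
      (fun a b _ _ ⟨a', ha', ha⟩ ⟨b', hb', hb⟩ => ⟨a' + b', add_mem ha' hb', by rw [map_add, ha, hb]⟩)
      (fun r a _ ⟨a', ha', ha⟩ => ⟨r • a', Submodule.smul_mem _ r ha', by rw [Scheme.Modules.Hom.app_smul, ha]⟩)
      hxm
    obtain ⟨b, hb, rfl⟩ := hy
    let t : R := (Scheme.ΓSpecIso R).hom b
    have ht : t ∈ m := by
      show t ∈ RingHom.ker π.hom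
      rw [RingHom.mem_ker]
      have h0 : ((Spec.map π).appLE ⊤ ⊤ le_top) b = 0 := hb
      rw [show (Spec.map π).appLE ⊤ ⊤ le_top = (Spec.map π).appTop from Scheme.Hom.appLE_eq_app _] at h0
      have := congr($(Scheme.ΓSpecIso_naturality π) b)
      refine this.symm.trans ?_
      show (Scheme.ΓSpecIso k).hom ((Spec.map π).appTop b) = 0
      rw [show (Spec.map π).appTop b = 0 from h0, map_zero]
    refine ⟨_, Submodule.subset_span ⟨⟨t, ht⟩, rfl⟩, ?_⟩
    show ((Sigma.ι (fun _ : m => O) ⟨t, ht⟩ ≫ Ψ) ≫ kernel.ι v).app U (1 : Γ(X, U)) = _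
    rw [Sigma.ι_desc, kernel.lift_ι]
    change X.presheaf.map (homOfLE (le_top : U ≤ ⊤)).op (Coh.toGlobal f t) * (1 : Γ(X, U)) = _
    rw [mul_one, toGlobal_res]
    congr 1
    exact congr($((Scheme.ΓSpecIso R).hom_inv_id) b)
  exact ⟨inferInstanceAs (Epi v), Ψ, inferInstance⟩

theorem fiber_dim_le_baseChange {X' Y' Y : Scheme.{u}} {g' : X' ⟶ X} {f' : X' ⟶ Y'} {f : X ⟶ Y} {g : Y' ⟶ Y}
    (hc : IsPullback g' f' f g) [LocallyOfFiniteType f] (d : ℕ)
    (hd : ∀ y : Y, topologicalKrullDim ↥(f.fiber y) ≤ d) (s : Y') : topologicalKrullDim ↥(f'.fiber s) ≤ d := by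
  haveI : LocallyOfFiniteType f' := MorphismProperty.of_isPullback hc ‹LocallyOfFiniteType f›
  refine H7Lim.dim_fiber_le_of_forall f' s _ fun x => ?_
  rw [Groth.Agent.H8Props.FieldDim.fibreDimAt_baseChange f hc x]
  exact (H7Lim.fibreDimAt_le_dim_fiber f _).trans (hd _)

theorem surjective_toGlobal_baseChange {A B : CommRingCat.{u}} (f : X ⟶ Spec A) [IsProper f]
    (hd : ∀ s : Spec A, topologicalKrullDim ↥(f.fiber s) ≤ (1 : ℕ))
    (h1 : ∀ s : Spec A, Subsingleton (Coh.HH (f.fiber s) (Coh.structureModule (f.fiber s)) 1))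
    (hs : Function.Surjective (Coh.toGlobal (A := A) f)) (ψ : A ⟶ B) {X' : Scheme.{u}} (g' : X' ⟶ X)
    (f' : X' ⟶ Spec B) (hc : IsPullback g' f' f (Spec.map ψ)) :
    Function.Surjective (Coh.toGlobal (A := B) f') := by
  classical
  letI : Algebra A B := ψ.hom.toAlgebra
  let C : CommRingCat.{u} := CommRingCat.of (MvPolynomial (B : Type u) A)
  let ι : A ⟶ C := CommRingCat.ofHom (algebraMap A (MvPolynomial (B : Type u) A))
  let π : C ⟶ B := CommRingCat.ofHom (MvPolynomial.aeval (R := A) (id : B → B)).toRingHom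
  have hπ : Function.Surjective π.hom := fun b => ⟨MvPolynomial.X b, MvPolynomial.aeval_X _ b⟩
  have hιπ : ι ≫ π = ψ := by
    ext a
    exact (MvPolynomial.aeval (R := A) (id : B → B)).commutes a
  let P := pullback f (Spec.map ι)
  let fP : P ⟶ Spec C := pullback.snd f (Spec.map ι)
  haveI : IsProper fP := MorphismProperty.pullback_snd _ _ inferInstance
  haveI : Flat (Spec.map ι) := by
    rw [HasRingHomProperty.Spec_iff (P := @Flat)]
    exact RingHom.flat_algebraMap_iff.mpr inferInstance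
  haveI : CompactSpace X := QuasiCompact.compactSpace_of_compactSpace f
  haveI : QuasiSeparatedSpace X := quasiSeparatedSpace_of_quasiSeparated f
  have hpo := (isIso_pushoutSection_iff (IsPullback.of_hasPullback f (Spec.map ι)) (UX := (⊤ : X.Opens))
    (UT := (⊤ : (Spec C).Opens)) (US := ⊤) le_top le_top
    (UY := pullback.fst f (Spec.map ι) ⁻¹ᵁ ⊤ ⊓ fP ⁻¹ᵁ ⊤) rfl).mp
    (isIso_pushoutSection_of_isQuasiSeparated_of_flat_right (IsPullback.of_hasPullback f (Spec.map ι)) le_top le_top rfl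
      (isAffineOpen_top _) (isAffineOpen_top _) isCompact_univ isQuasiSeparated_univ)
  have hsP : Function.Surjective (Coh.toGlobal (A := C) fP) := by
    intro z
    suffices hz : ∀ w : Γ(P, pullback.fst f (Spec.map ι) ⁻¹ᵁ ⊤ ⊓ fP ⁻¹ᵁ ⊤),
        w ∈ (fP.appLE ⊤ (pullback.fst f (Spec.map ι) ⁻¹ᵁ ⊤ ⊓ fP ⁻¹ᵁ ⊤) inf_le_right).hom.range by
      have htop : pullback.fst f (Spec.map ι) ⁻¹ᵁ ⊤ ⊓ fP ⁻¹ᵁ ⊤ = (⊤ : P.Opens) := by simp
      let z' : Γ(P, ⊤) := z
      obtain ⟨c, hc⟩ := hz (P.presheaf.map (homOfLE le_top).op z')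
      refine ⟨(Scheme.ΓSpecIso C).hom c, ?_⟩
      show fP.appTop ((Scheme.ΓSpecIso C).inv ((Scheme.ΓSpecIso C).hom c)) = z'
      rw [show (Scheme.ΓSpecIso C).inv ((Scheme.ΓSpecIso C).hom c) = c from congr($((Scheme.ΓSpecIso C).hom_inv_id) c)]
      have hiso : Function.Injective (P.presheaf.map (homOfLE (le_top :
          pullback.fst f (Spec.map ι) ⁻¹ᵁ ⊤ ⊓ fP ⁻¹ᵁ ⊤ ≤ ⊤)).op).hom := by
        intro a b hab
        have := congrArg (P.presheaf.map (homOfLE htop.ge).op).hom hab
        rwa [← CommRingCat.comp_apply, ← CommRingCat.comp_apply, ← P.presheaf.map_comp, ← op_comp,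
          show homOfLE htop.ge ≫ homOfLE (le_top : pullback.fst f (Spec.map ι) ⁻¹ᵁ ⊤ ⊓ fP ⁻¹ᵁ ⊤ ≤ ⊤) = 𝟙 _ from
            Subsingleton.elim _ _, op_id, P.presheaf.map_id] at this
      exact hiso hc
    intro w
    have hmem := mem_span_of_isPushout hpo w
    letI := ((pullback.fst f (Spec.map ι)).appLE ⊤ (pullback.fst f (Spec.map ι) ⁻¹ᵁ ⊤ ⊓ fP ⁻¹ᵁ ⊤) inf_le_left).hom.toAlgebra
    refine Submodule.span_induction (fun y hy => ?_) (zero_mem _) (fun a b _ _ ha hb => add_mem ha hb)
      (fun r a _ ha => ?_) hmem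
    · obtain ⟨c, rfl⟩ := hy
      exact ⟨c, rfl⟩
    · rw [Algebra.smul_def]
      refine mul_mem ?_ ha
      obtain ⟨r₀, hr₀⟩ := hs (r : Γ(X, ⊤))
      have hr : r = f.appLE ⊤ ⊤ le_top ((Scheme.ΓSpecIso A).inv r₀) := by
        rw [← hr₀, show f.appLE ⊤ ⊤ le_top = f.appTop from Scheme.Hom.appLE_eq_app _]
        rfl
      refine ⟨(Spec.map ι).appLE ⊤ ⊤ le_top ((Scheme.ΓSpecIso A).inv r₀), ?_⟩
      rw [hr]
      exact (congr($(hpo.w) ((Scheme.ΓSpecIso A).inv r₀))).symm
  let i : X' ⟶ P := pullback.lift g' (f' ≫ Spec.map π) (by rw [Category.assoc, ← Spec.map_comp, hιπ]; exact hc.w)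
  have sq : IsPullback i f' fP (Spec.map π) :=
    IsPullback.of_right (by rw [pullback.lift_fst, ← Spec.map_comp, hιπ]; exact hc) (pullback.lift_snd _ _ _)
      (IsPullback.of_hasPullback f (Spec.map ι))
  obtain ⟨hv, Ψ, hΨ⟩ := exists_epi_kernel fP π hπ i f' sq
  haveI := hv
  haveI := hΨ
  letI : X.Over (Spec (CommRingCat.of A)) := ⟨f⟩
  letI : P.Over (Spec (CommRingCat.of C)) := ⟨fP⟩
  haveI : CompactSpace P := QuasiCompact.compactSpace_of_compactSpace fP
  haveI : QuasiSeparatedSpace P := quasiSeparatedSpace_of_quasiSeparated fP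
  have hdP := fiber_dim_le_baseChange (IsPullback.of_hasPullback f (Spec.map ι)) 1 hd
  have h2 : ∀ M : P.Modules, Coh.IsQCoh M → Subsingleton (Coh.HH P M (1 + 1)) := fun M hM =>
    haveI := hM; subsingleton_HH fP 1 hdP M (1 + 1) (by norm_num)
  haveI : (Coh.structureModule X).IsQuasicoherent := isQuasicoherent_unit
  haveI : Subsingleton (Coh.HH X (Coh.structureModule X) 1) := by
    haveI : Epi (Sigma.desc fun _ : PUnit.{u + 1} => 𝟙 (Coh.structureModule X)) :=
      epi_of_epi_fac (Sigma.ι_desc (fun _ : PUnit.{u + 1} => 𝟙 (Coh.structureModule X)) PUnit.unit)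
    exact subsingleton_HH_one f hd h1 _ (Sigma.desc fun _ : PUnit.{u + 1} => 𝟙 (Coh.structureModule X))
  haveI : IsProper (X ↘ Spec (CommRingCat.of A)) := ‹IsProper f›
  obtain ⟨u, -, hspan⟩ := exists_pullMap (X₀ := X) (A₀ := A) (A := C) fP f rfl rfl ι (pullback.fst f (Spec.map ι))
    pullback.condition
    (by rw [show pullback.lift (pullback.fst f (Spec.map ι)) fP pullback.condition = 𝟙 P from
          pullback.hom_ext ((pullback.lift_fst _ _ _).trans (Category.id_comp _).symm) ((pullback.lift_snd _ _ _).trans (Category.id_comp _).symm)]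
        infer_instance)
    (fun M hM => haveI := hM; subsingleton_HH f 1 hd M (1 + 1) (by norm_num))
  have hP1 : Subsingleton (Coh.HH P (Coh.structureModule P) 1) := subsingleton_of_forall_eq 0 fun x => by
    have := hspan x
    rwa [show Set.range u = {0} from Set.ext fun w => ⟨fun ⟨z, hz⟩ => by simp [← hz, Subsingleton.elim z 0],
      fun hw => ⟨0, by simp [Set.mem_singleton_iff.1 hw]⟩⟩, Submodule.span_singleton_eq_bot.2 rfl,
      Submodule.mem_bot] at this
  haveI : IsClosedImmersion (Spec.map π) := IsClosedImmersion.spec_of_surjective π hπ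
  haveI : IsClosedImmersion i := MorphismProperty.of_isPullback sq.flip ‹IsClosedImmersion (Spec.map π)›
  haveI : (Coh.structureModule P).IsQuasicoherent := isQuasicoherent_unit
  haveI : (Coh.structureModule X').IsQuasicoherent := isQuasicoherent_unit
  haveI := isQuasicoherent_pushforward_of_isAffineHom i (Coh.structureModule X')
  haveI : (kernel (ClSub.unitToPush i)).IsQuasicoherent := isQuasicoherent_kernel _
  haveI hK : Subsingleton (Coh.HH P (kernel (ClSub.unitToPush i)) (0 + 1)) := subsingleton_of_epi_coprod Ψ 1 h2 hP1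
  intro z
  obtain ⟨x, hx⟩ := hm_surjective_of_epi (ClSub.unitToPush i) 0 hK
    ((topEquiv _ 0).symm ((H0Equiv _ ⊤).symm
      (z : Γ((Coh.push i).obj (Coh.structureModule X'), (⊤ : P.Opens)))))
  let v := ClSub.unitToPush i
  let s := H0Equiv (sh (Coh.structureModule P)) ⊤ (topEquiv (sh (Coh.structureModule P)) 0 x)
  have e1 : H0Equiv (sh ((Coh.push i).obj (Coh.structureModule X'))) ⊤ (topEquiv (sh ((Coh.push i).obj (Coh.structureModule X'))) 0 (hm v 0 x)) =
      ((shF P).map v).hom.app (op ⊤) s :=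
    (congrArg (H0Equiv _ ⊤) (topEquiv_hm v 0 x)).trans (H0Equiv_map _ _)
  have e2 : H0Equiv (sh ((Coh.push i).obj (Coh.structureModule X'))) ⊤ (topEquiv (sh ((Coh.push i).obj (Coh.structureModule X'))) 0 (hm v 0 x)) =
      (z : Γ((Coh.push i).obj (Coh.structureModule X'), (⊤ : P.Opens))) := by
    rw [hx]
    exact (congrArg (H0Equiv _ ⊤) (AddEquiv.apply_symm_apply _ _)).trans (AddEquiv.apply_symm_apply _ _)
  have hx' := e1.symm.trans e2
  obtain ⟨c, hcs⟩ := hsP s
  refine ⟨π c, ?_⟩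
  rw [← appTop_toGlobal f' fP π i sq.w, hcs]
  exact hx'

end Groth.Agent.H7Flat.CohDim
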